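import Cfsg.Agent.TwistE6Mult.CoverStable

/-!
# Two independent double covers of `²E₆(2)`

One comes from the stable cover of the unipotent subgroup; the other is its twist by a diagonal
automorphism.
-/

set_option autoImplicit false
set_option maxRecDepth 20000
set_option linter.style.haveILetI false

namespace CfsgLib.TwistE6Mult

open Cfsg.Lie CfsgLib.Chevalley CfsgLib.GraphTwist CfsgLib.Schur
open scoped MatrixGroups commutatorElement

universe u

theorem coef_spec : ∀ r : Root chevE6, (3 : ℤ) ∣ delWt (fun k => chevE6.cartan k r) := by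
  decide +kernel

theorem delExp_lt (r : ℕ) : delExp r < 3 := by
  unfold delExp
  have := Int.emod_lt_of_pos (delWt (fun k => chevE6.cartan k r) / 3) (by norm_num : (0 : ℤ) < 3)
  omega

/-- The weight of a coordinate, by node number. -/
def wtN (a : chevE6.Idx) (k : ℕ) : ℤ := if hk : k < 6 then wt chevE6 (nodeE6 ⟨k, hk⟩) a else 0

theorem wtN_spec : ∀ r : Root chevE6,
    delWt (wtN (Sum.inr r)) = delWt (fun k => chevE6.cartan k r) := fun _ => rfl

theorem wtN_inl (j : Fin chevE6.rank) : delWt (wtN (Sum.inl j)) = 0 := rfl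

theorem delWt_add {r : Root chevE6} {k : ℕ} {a b : chevE6.Idx} (hE : E chevE6 r k a b ≠ 0) :
    delWt (wtN a) = delWt (wtN b) + k * delWt (fun i => chevE6.cartan i r) := by
  have h := fun i => goodC.good.wt_of_E_ne_zero r k i hE
  simp only [delWt, wtN, show (0 : ℕ) < 6 from by norm_num, show (2 : ℕ) < 6 from by norm_num,
    show (4 : ℕ) < 6 from by norm_num, show (5 : ℕ) < 6 from by norm_num, dif_pos, h]
  push_cast [nodeE6]
  ring

theorem delExp_sigma : ∀ r : Root chevE6, delExp (setupE6.σR r : ℕ) = 2 * delExp r % 3 ∧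
    (setupE6.σR r = r → delExp r = 0) := by
  decide +kernel

theorem delRows_lt : ∀ s < 36, ((delRows.getD s []).all fun t => Nat.blt t 36) = true := by
  decide +kernel

theorem torExp_ne : ∃ r : Root chevE6, torExp r ≠ 0 := by decide +kernel

variable {K : Type u} [Field K] {ω : K} {Φ : FieldTwist setupE6 K} (h : IsStd Φ ω)
include h

theorem IsStd.card_H₀ : Nat.card Φ.H₀ = 3 := by
  haveI := h.finite
  letI := Fintype.ofFinite K
  have hK : Fintype.card K = 2 ^ 2 := by rw [← Nat.card_eq_fintype_card]; exact h.card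
  have := natCard_H₀_E6 Φ h.f_eq h.fixed hK
  norm_num at this
  omega

theorem IsStd.tor_mem : (h.tor : GL chevE6.Idx K) ∈ Φ.H₀ := ⟨_, h.torVec_fix, rfl⟩

theorem IsStd.tor_ne_one : (h.tor : GL chevE6.Idx K) ≠ 1 := by
  intro e
  obtain ⟨r, hr⟩ := torExp_ne
  have h1 := ChevSimple.torC_conj_X goodC.good h.torVec r (1 : K)
  rw [show torC chevE6 h.torVec = 1 from e, one_mul, inv_one, mul_one, h.chi_torVec, mul_one] at h1
  have h2 : ω ^ torExp r = 1 := (X_injective goodC.good r h1).symm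
  have h3 := torExp_lt r
  rcases (show torExp r = 1 ∨ torExp r = 2 by omega) with e1 | e1 <;> rw [e1] at h2
  · exact h.omega.ne_one ((pow_one ω).symm.trans h2)
  · refine h.omega.ne_one ?_
    calc ω = ω ^ 2 * ω := by rw [h2, one_mul]
      _ = 1 := by rw [← pow_succ, h.omega.cube]

theorem IsStd.mem_B {b : ↥Φ.tG}
    (hb : b ∈ (chevE6.borelSubgroup K ⊓ Φ.tG).subgroupOf Φ.tG) :
    ∃ u ∈ h.usub, ∃ k : ℕ, b = u * h.tor⁻¹ ^ k := by
  haveI := h.finite
  rw [Subgroup.mem_subgroupOf, Φ.borel_inf_tG setupE6_faithful] at hb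
  obtain ⟨u, hu, t, ht, e⟩ := Φ.mem_B1_iff.1 hb
  refine ⟨⟨u, Φ.U1_le_tG hu⟩, by rw [h.usub_eq]; exact hu, ?_⟩
  obtain ⟨k, hk⟩ : ∃ k : ℕ, t = ((h.tor : GL chevE6.Idx K)⁻¹) ^ k := by
    haveI : Fact (Nat.Prime 3) := ⟨by norm_num⟩
    let g : Φ.H₀ := ⟨(h.tor : GL chevE6.Idx K)⁻¹, inv_mem h.tor_mem⟩
    have hg : g ≠ 1 := fun e' => h.tor_ne_one (inv_eq_one.1 (congrArg Subtype.val e'))
    obtain ⟨k, hk⟩ := mem_powers_of_prime_card h.card_H₀ hg (g' := ⟨t, ht⟩)
    exact ⟨k, (congrArg Subtype.val hk).symm⟩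
  refine ⟨k, Subtype.ext ?_⟩
  rw [← e, hk]
  simp

theorem IsStd.H₀_conj_usub {t : ↥Φ.tG} (ht : (t : GL chevE6.Idx K) ∈ Φ.H₀) :
    ∀ z ∈ h.usub, t * z * t⁻¹ ∈ h.usub := by
  intro z hz
  rw [h.usub_eq] at hz ⊢
  exact Φ.H₀_conj_U1 ht hz

theorem IsStd.conj_range {x g : ↥Φ.tG} (hx : x ∈ h.proj.range)
    (hg : g⁻¹ * x * g ∈ (chevE6.borelSubgroup K ⊓ Φ.tG).subgroupOf Φ.tG) :
    g⁻¹ * x * g ∈ h.proj.range := by
  rw [h.range_proj] at hx ⊢
  haveI := h.finite
  set y := g⁻¹ * x * g with hy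
  obtain ⟨e, he⟩ : ∃ e, orderOf y = 2 ^ e := by
    have h1 : orderOf y = orderOf x := by
      rw [hy, show g⁻¹ * x * g = MulAut.conj g⁻¹ x by simp]
      exact (MulAut.conj g⁻¹).orderOf_eq x
    have h2 := orderOf_dvd_natCard (⟨x, hx⟩ : h.usub)
    rw [h.card_usub, Subgroup.orderOf_mk] at h2
    obtain ⟨e, -, he⟩ := (Nat.dvd_prime_pow Nat.prime_two).1 h2
    exact ⟨e, h1.trans he⟩
  -- the Borel subgroup modulo the unipotent subgroup has order three
  obtain ⟨u, hu, k, hk⟩ := h.mem_B hg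
  set t := h.tor⁻¹ ^ k with ht
  have htH : (t : GL chevE6.Idx K) ∈ Φ.H₀ := by
    rw [ht, Subgroup.coe_pow, Subgroup.coe_inv]; exact pow_mem (inv_mem h.tor_mem) k
  have hn := h.H₀_conj_usub htH
  have ht3 : t ^ 3 = 1 := by
    refine Subtype.ext ?_
    have := pow_card_eq_one' (G := Φ.H₀) (x := ⟨_, htH⟩)
    rw [h.card_H₀] at this
    simpa using congrArg Subtype.val this
  have hy3 : y ^ 3 ∈ h.usub := by
    rw [hk, show (u * t) ^ 3 = u * (t * u * t⁻¹) * (t * (t * u * t⁻¹) * t⁻¹) * t ^ 3 by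
        simp only [pow_succ, pow_zero, one_mul]; group,
      ht3, mul_one]
    exact mul_mem (mul_mem hu (hn u hu)) (hn _ (hn u hu))
  obtain ⟨m, hm⟩ := exists_pow_eq_self_of_coprime (x := y) (n := 3)
    (by rw [he]; exact Nat.Coprime.pow_right e (by norm_num))
  rw [← hm]
  exact pow_mem hy3 m

theorem IsStd.H₀_dom {t : ↥Φ.tG} (ht : (t : GL chevE6.Idx K) ∈ Φ.H₀) :
    Stable.dom h.proj t = ⊤ := by
  refine eq_top_iff.2 fun v _ => ?_
  rw [Stable.mem_dom, h.range_proj]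
  have hv : h.proj v ∈ h.usub := h.range_proj ▸ ⟨v, rfl⟩
  have := h.H₀_conj_usub (t := t⁻¹) (by rw [Subgroup.coe_inv]; exact inv_mem ht) _ hv
  rwa [inv_inv] at this

theorem IsStd.stable_B {b : ↥Φ.tG}
    (hb : b ∈ (chevE6.borelSubgroup K ⊓ Φ.tG).subgroupOf Φ.tG) :
    Stable.Stable h.proj h.zc b := by
  obtain ⟨u, hu, k, rfl⟩ := h.mem_B hb
  have htor : (h.tor⁻¹ : ↥Φ.tG).1 ∈ Φ.H₀ := inv_mem h.tor_mem
  have hk : ∀ k : ℕ, Stable.Stable h.proj h.zc (h.tor⁻¹ ^ k) := by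
    intro k
    induction k with
    | zero => exact Stable.stable_of_range h.zc_central (one_mem _)
    | succ k ih =>
      have h4 : Stable.Stable h.proj h.zc h.tor⁻¹ := by
        have := h.stable_conjEl (f := 4) (by norm_num)
        rwa [IsStd.conjEl, dif_neg (by norm_num)] at this
      rw [pow_succ']
      refine Stable.stable_mul h4 ih ?_
      rw [h.H₀_dom htor]
      exact le_top
  refine Stable.stable_mul (Stable.stable_of_range h.zc_central (h.range_proj.symm ▸ hu)) (hk k)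
    fun v _ => ?_
  rw [Stable.mem_dom, h.range_proj]
  exact mul_mem (mul_mem (inv_mem hu) (h.range_proj ▸ ⟨v, rfl⟩)) hu

theorem IsStd.stable (g : ↥Φ.tG) : Stable.Stable h.proj h.zc g := by
  haveI := h.finite
  obtain ⟨P, hB, -, hS⟩ := Φ.exists_bnPair setupE6_faithful
  refine Stable.stable_all_of P ?_ (fun x hx g hg => ?_) (fun b hb => ?_) (fun s hs => ?_) g
  · rw [h.range_proj, h.usub_eq, hB, Φ.borel_inf_tG setupE6_faithful]
    exact fun x hx => Subgroup.mem_sup_left hx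
  · exact h.conj_range hx (hB ▸ hg)
  · exact h.stable_B (hB ▸ hb)
  · rw [hS] at hs
    obtain ⟨o, rfl⟩ := hs
    have ho : (o : ℕ) < 4 := o.2
    have := h.stable_conjEl (f := o) (by omega)
    rwa [IsStd.conjEl, dif_pos ho] at this

/-- The diagonal element. -/
def IsStd.dg : GL chevE6.Idx K :=
  Chevalley.tor fun s : Root chevE6 => h.wU ^ (delWt (wtN (Sum.inr s)) / 3)

theorem IsStd.dg_apply (a : chevE6.Idx) :
    ((h.dg : GL chevE6.Idx K) : Matrix chevE6.Idx chevE6.Idx K) a a =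
      ((h.wU ^ (delWt (wtN a) / 3) : Kˣ) : K) := by
  rcases a with j | s
  · simp [IsStd.dg, Chevalley.tor, wtN_inl]
  · simp [IsStd.dg, Chevalley.tor]

theorem IsStd.dg_conj (r : Root chevE6) (x : K) :
    h.dg * X goodC.good r x * h.dg⁻¹ = X goodC.good r (ω ^ delExp r * x) := by
  set m := delWt (fun i => chevE6.cartan i r) / 3 with hm
  have hm3 : delWt (fun i => chevE6.cartan i r) = 3 * m := by
    have := coef_spec r; omega
  have hw3 : h.wU ^ (3 : ℤ) = 1 := Units.ext (by simp [IsStd.wU, zpow_ofNat, h.omega.cube])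
  have hexp : ω ^ delExp r = ((h.wU ^ m : Kˣ) : K) := by
    have e : h.wU ^ m = h.wU ^ (delExp r : ℤ) := by
      have hd : (delExp r : ℤ) = m % 3 := by
        rw [delExp, ← hm, Int.toNat_of_nonneg (Int.emod_nonneg _ (by norm_num))]
      rw [hd]
      conv_lhs => rw [← Int.emod_add_mul_ediv m 3, zpow_add, zpow_mul, hw3, one_zpow, mul_one]
    rw [e, zpow_natCast, Units.val_pow_eq_pow_val]
    rfl
  have hcom : h.dg * X goodC.good r x = X goodC.good r (ω ^ delExp r * x) * h.dg := by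
    refine Units.ext ?_
    ext a b
    have hd : ((h.dg : GL chevE6.Idx K) : Matrix chevE6.Idx chevE6.Idx K) =
        Matrix.diagonal fun a => ((h.wU ^ (delWt (wtN a) / 3) : Kˣ) : K) := by
      ext i j
      rcases eq_or_ne i j with rfl | hij
      · rw [h.dg_apply, Matrix.diagonal_apply_eq]
      · simp [IsStd.dg, Chevalley.tor, hij]
    rw [Units.val_mul, Units.val_mul, hd, Matrix.diagonal_mul, Matrix.mul_diagonal, coe_X, coe_X]
    simp only [xR, Matrix.sum_apply, Matrix.smul_apply, Matrix.map_apply, smul_eq_mul,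
      Finset.mul_sum, Finset.sum_mul]
    refine Finset.sum_congr rfl fun k _ => ?_
    by_cases hE : E chevE6 r k a b = 0
    · simp [hE]
    have hwt := delWt_add hE
    rw [hm3, show (k : ℤ) * (3 * m) = m * k * 3 by ring] at hwt
    have e : h.wU ^ (delWt (wtN a) / 3) = (h.wU ^ m) ^ k * h.wU ^ (delWt (wtN b) / 3) := by
      rw [← zpow_natCast (h.wU ^ m), ← zpow_mul, ← zpow_add, hwt,
        Int.add_mul_ediv_right _ _ (by norm_num : (3 : ℤ) ≠ 0), add_comm]
    rw [e, Units.val_mul, Units.val_pow_eq_pow_val, hexp, mul_pow]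
    ring
  rw [hcom, mul_inv_cancel_right]

theorem IsStd.dg_oX (r : Root chevE6) {x : K} (hx : Φ.Adm r x) :
    ∃ y, Φ.Adm r y ∧ h.dg * Φ.oX r x * h.dg⁻¹ = Φ.oX r y := by
  obtain ⟨hσ, hfix⟩ := delExp_sigma r
  refine ⟨ω ^ delExp r * x, fun e => ?_, ?_⟩
  · rw [hfix e, pow_zero, one_mul]; exact hx e
  · have hos : setupE6.osize r = 1 ∨ setupE6.osize r = 2 := by
      rw [setupE6.osize_eq]; split
      exacts [Or.inl rfl, Or.inr rfl]
    rcases hos with ho | ho
    · rw [oX_one ho, oX_one ho, h.dg_conj]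
    · rw [oX_two h.omega ho, oX_two h.omega ho,
        show ∀ d a b : GL chevE6.Idx K, d * (a * b) * d⁻¹ = (d * a * d⁻¹) * (d * b * d⁻¹) from
          fun d a b => by group, h.dg_conj, h.dg_conj, hσ, map_mul, map_pow,
        show Φ.f ω = ω ^ 2 from h.f_eq ω, ← pow_mul,
        show ω ^ (2 * delExp r % 3) = ω ^ (2 * delExp r) from
          (pow_eq_pow_mod _ h.omega.cube).symm]

theorem IsStd.dg_tG {g : GL chevE6.Idx K} (hg : g ∈ Φ.tG) : h.dg * g * h.dg⁻¹ ∈ Φ.tG := by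
  have : Φ.tG ≤ Φ.tG.comap (MulAut.conj h.dg).toMonoidHom := by
    conv_lhs => rw [FieldTwist.tG]
    rw [Subgroup.closure_le]
    rintro _ ⟨o, b, x, hx, rfl⟩
    obtain ⟨y, hy, e⟩ := h.dg_oX _ hx
    show h.dg * _ * h.dg⁻¹ ∈ Φ.tG
    rw [e]
    exact Subgroup.subset_closure ⟨o, b, y, hy, rfl⟩
  exact this hg

/-- The diagonal automorphism. -/
def IsStd.del : ↥Φ.tG →* ↥Φ.tG where
  toFun g := ⟨h.dg * g * h.dg⁻¹, h.dg_tG g.2⟩
  map_one' := Subtype.ext (by simp)
  map_mul' a b := Subtype.ext (by simp [mul_assoc])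

theorem IsStd.coe_del (g : ↥Φ.tG) :
    (h.del g : GL chevE6.Idx K) = h.dg * (g : GL chevE6.Idx K) * h.dg⁻¹ := rfl

theorem IsStd.coe_uGen (s : ℕ) : (h.uGen s : GL chevE6.Idx K) = xw ω (genW s) := rfl

attribute [local irreducible] IsStd.dg IsStd.del IsStd.uGen collectW genW xw

theorem IsStd.del_ev : ∀ w : List ℕ, (∀ s ∈ w, s < 36) →
    h.del (Pc.ev h.uGen w) = Pc.ev h.uGen (delW w)
  | [], _ => map_one _
  | s :: w, hw => by
    rw [show delW (s :: w) = delRows.getD s [] ++ delW w from rfl, Pc.ev_cons, map_mul,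
      IsStd.del_ev w fun t ht => hw t (List.mem_cons_of_mem _ ht), Pc.ev_append]
    congr 1
    refine Subtype.ext ?_
    have e := delChk_true
    simp only [delChk, List.all_eq_true, List.mem_range, Bool.and_eq_true] at e
    rw [h.coe_ev, h.coe_del, h.coe_uGen]
    rw [h.conj_xw (π := id) (e := delExp) delExp_lt (fun r x => ⟨r.2, h.dg_conj r x⟩) _
      (genW_bound h s)]
    exact xw_eq h.omega (e.1 s (hw s List.mem_cons_self))

theorem IsStd.comm_cw (r : ℕ) (hr : r < 4) :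
    ⁅Pc.ev h.xc (cw r 0), Pc.ev h.xc (cw r 1)⁆ *
      (⁅Pc.ev h.xc (cw r 4), Pc.ev h.xc (cw r 5)⁆)⁻¹ =
      if r = 0 ∨ r = 3 then h.zc else 1 := by
  have hc := comChk_true
  simp only [comChk, Bool.and_eq_true, List.all_eq_true, List.mem_range] at hc
  obtain ⟨⟨-, hinv⟩, heq⟩ := hc r hr
  have hi : ∀ i j, (i, j) ∈ [(0, 2), (1, 3), (4, 6), (5, 7)] →
      Pc.ev h.xc (cw r j) = (Pc.ev h.xc (cw r i))⁻¹ := by
    intro i j hij
    refine eq_inv_of_mul_eq_one_left (Subtype.ext ?_)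
    rw [← Pc.ev_append, h.coe_ev_xc, h.ev_eq (hinv _ hij)]
    rfl
  set z : h.cov := if r = 0 ∨ r = 3 then h.zc else 1 with hz
  have hzev : Pc.ev h.xc (bif Nat.beq r 0 || Nat.beq r 3 then [36] else []) = z := by
    rw [hz]
    obtain rfl | rfl | rfl | rfl : r = 0 ∨ r = 1 ∨ r = 2 ∨ r = 3 := by omega
    all_goals first
      | exact mul_one _
      | rfl
  have e : ⁅Pc.ev h.xc (cw r 0), Pc.ev h.xc (cw r 1)⁆ =
      ⁅Pc.ev h.xc (cw r 4), Pc.ev h.xc (cw r 5)⁆ * z := by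
    rw [commutatorElement_def, commutatorElement_def, ← hi 0 2 (by decide), ← hi 1 3 (by decide),
      ← hi 4 6 (by decide), ← hi 5 7 (by decide), ← hzev, ← Pc.ev_append, ← Pc.ev_append,
      ← Pc.ev_append, ← Pc.ev_append, ← Pc.ev_append, ← Pc.ev_append, ← Pc.ev_append]
    refine Subtype.ext ?_
    rw [h.coe_ev_xc, h.coe_ev_xc]
    exact h.ev_eq heq
  have hzc : z ∈ Subgroup.center h.cov := by
    rw [hz]; split
    exacts [h.zc_central, one_mem _]
  rw [e, Subgroup.mem_center_iff.1 hzc, mul_inv_cancel_right]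

theorem IsStd.del_cw (r i : ℕ) (hr : r < 2) (hi : i < 8) :
    h.proj (Pc.ev h.xc (cw (2 + r) i)) = h.del (h.proj (Pc.ev h.xc (cw r i))) := by
  have e := delChk_true
  simp only [delChk, List.all_eq_true, List.mem_range, Bool.and_eq_true] at e
  have hp : ∀ w, h.proj (Pc.ev h.xc w) = Pc.ev h.uGen (w.filter fun s => Nat.blt s 36) :=
    fun w => by
      rw [← h.ev_xg_fst, ← h.coe_ev_xc]; rfl
  rw [hp, hp, h.del_ev ((cw r i).filter fun s => Nat.blt s 36) fun s hs =>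
    Nat.le_of_ble_eq_true (List.mem_filter.1 hs).2]
  refine Subtype.ext ?_
  rw [h.coe_ev, h.coe_ev]
  exact (xw_eq h.omega (e.2 r hr i hi)).symm

/-- A central extension whose kernel meets the commutator subgroup in a fours group. -/
theorem IsStd.exists_fours :
    ∃ (Δ : Type u) (_ : Group Δ) (_ : Finite Δ) (τ : Δ →* ↥Φ.tG),
      Function.Surjective τ ∧ τ.ker ≤ Subgroup.center Δ ∧
        ∃ z₁ z₂ : Δ, z₁ ∈ τ.ker ⊓ commutator Δ ∧ z₂ ∈ τ.ker ⊓ commutator Δ ∧
          (∀ z ∈ τ.ker, z ^ 2 = 1) ∧ z₁ ≠ 1 ∧ z₂ ≠ 1 ∧ z₁ ≠ z₂ := by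
  classical
  haveI := h.finite
  haveI := h.finite_amb
  obtain ⟨E, iG, iF, π, ρ, hsur, hcen, hcard, hcomp, hne⟩ :=
    Stable.exists_extension h.zc_central h.zc_ne_one h.zc_mul_self h.proj_zc h.proj_ker
      (by rw [h.range_proj, ← Nat.not_even_iff_odd, even_iff_two_dvd]; exact h.index_usub)
      h.stable
  let F : Subgroup (E × E) :=
    (π.comp (MonoidHom.snd E E)).eqLocus ((h.del.comp π).comp (MonoidHom.fst E E))
  let τ : F →* ↥Φ.tG := (π.comp (MonoidHom.fst E E)).comp F.subtype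
  have hmem : ∀ p : E × E, p ∈ F ↔ π p.2 = h.del (π p.1) := fun p => Iff.rfl
  have hτ : ∀ z : F, z ∈ τ.ker → (z : E × E).1 ∈ π.ker ∧ (z : E × E).2 ∈ π.ker := by
    intro z hz
    have h1 : π (z : E × E).1 = 1 := hz
    have h2 := (hmem _).1 z.2
    rw [h1, map_one] at h2
    exact ⟨h1, h2⟩
  have hsq : ∀ e ∈ π.ker, e ^ 2 = 1 := fun e he => by
    have := pow_card_eq_one' (G := π.ker) (x := ⟨e, he⟩)
    rw [hcard] at this
    simpa using congrArg Subtype.val this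
  have hw : ∀ r i, r < 2 → i < 8 →
      ((ρ (Pc.ev h.xc (cw r i)), ρ (Pc.ev h.xc (cw (2 + r) i))) : E × E) ∈ F := fun r i hr hi => by
    rw [hmem]
    show π (ρ _) = h.del (π (ρ _))
    rw [← MonoidHom.comp_apply π ρ, ← MonoidHom.comp_apply π ρ, hcomp, h.del_cw r i hr hi]
  let x : (r : ℕ) → r < 2 → F := fun r hr =>
    ⁅(⟨_, hw r 0 hr (by norm_num)⟩ : F), ⟨_, hw r 1 hr (by norm_num)⟩⁆ *
      (⁅(⟨_, hw r 4 hr (by norm_num)⟩ : F), ⟨_, hw r 5 hr (by norm_num)⟩⁆)⁻¹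
  have hx : ∀ r hr, ((x r hr : F) : E × E) =
      (ρ (⁅Pc.ev h.xc (cw r 0), Pc.ev h.xc (cw r 1)⁆ *
          (⁅Pc.ev h.xc (cw r 4), Pc.ev h.xc (cw r 5)⁆)⁻¹),
        ρ (⁅Pc.ev h.xc (cw (2 + r) 0), Pc.ev h.xc (cw (2 + r) 1)⁆ *
          (⁅Pc.ev h.xc (cw (2 + r) 4), Pc.ev h.xc (cw (2 + r) 5)⁆)⁻¹)) := fun r hr => by
    simp only [x, commutatorElement_def, map_mul, map_inv]
    rfl
  have hx0 : ((x 0 (by norm_num) : F) : E × E) = (ρ h.zc, 1) := by
    rw [hx 0 (by norm_num), h.comm_cw 0 (by norm_num), h.comm_cw (2 + 0) (by norm_num)]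
    simp
  have hx1 : ((x 1 (by norm_num) : F) : E × E) = (1, ρ h.zc) := by
    rw [hx 1 (by norm_num), h.comm_cw 1 (by norm_num), h.comm_cw (2 + 1) (by norm_num)]
    simp
  have hρ : π (ρ h.zc) = 1 := by rw [← MonoidHom.comp_apply, hcomp, h.proj_zc]
  have hxc : ∀ r hr, x r hr ∈ commutator F := fun r hr =>
    mul_mem (Subgroup.commutator_mem_commutator (Subgroup.mem_top _) (Subgroup.mem_top _))
      (inv_mem (Subgroup.commutator_mem_commutator (Subgroup.mem_top _) (Subgroup.mem_top _)))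
  refine ⟨F, inferInstance, inferInstance, τ, fun g => ?_, fun z hz => ?_, x 0 (by norm_num),
    x 1 (by norm_num), ⟨?_, hxc 0 (by norm_num)⟩, ⟨?_, hxc 1 (by norm_num)⟩, fun z hz => ?_, fun e => hne ?_,
    fun e => hne ?_, fun e => hne ?_⟩
  · obtain ⟨a, rfl⟩ := hsur g
    obtain ⟨b, hb⟩ := hsur (h.del (π a))
    exact ⟨⟨(a, b), (hmem _).2 hb⟩, rfl⟩
  · obtain ⟨h1, h2⟩ := hτ z hz
    rw [Subgroup.mem_center_iff]
    intro y
    refine Subtype.ext (Prod.ext ?_ ?_)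
    · exact Subgroup.mem_center_iff.1 (hcen h1) _
    · exact Subgroup.mem_center_iff.1 (hcen h2) _
  · show π ((x 0 (by norm_num) : F) : E × E).1 = 1
    rw [hx0]; exact hρ
  · show π ((x 1 (by norm_num) : F) : E × E).1 = 1
    rw [hx1]; exact map_one π
  · obtain ⟨h1, h2⟩ := hτ z hz
    exact Subtype.ext (Prod.ext (hsq _ h1) (hsq _ h2))
  · exact (congrArg Prod.fst hx0).symm.trans (congrArg (fun v : F => (v : E × E).1) e)
  · exact (congrArg Prod.snd hx1).symm.trans (congrArg (fun v : F => (v : E × E).2) e)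
  · have := congrArg (fun v : F => (v : E × E).1) e
    simp only [hx0, hx1] at this
    exact this

end CfsgLib.TwistE6Mult
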