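import Cfsg.Agent.TwistE6Mult.Bound
import Cfsg.Agent.TwistE6Mult.Lower
import Cfsg.Agent.SchurTheory.Basic
import Mathlib.GroupTheory.SpecificGroups.KleinFour

/-!
# The Schur multiplier of `²E₆(2)` is `3 × 2 × 2`
-/

set_option autoImplicit false
set_option maxRecDepth 20000
set_option linter.style.haveILetI false

namespace CfsgLib.TwistE6Mult

open Cfsg.Lie CfsgLib.Chevalley CfsgLib.GraphTwist CfsgLib.Schur

universe u

variable {K : Type u} [Field K] {ω : K} {Φ : FieldTwist setupE6 K} (h : IsStd Φ ω)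

attribute [local irreducible] IsStd.uGen IsStd.cov IsStd.del

include h

/-- The order of the squares and of the involutions of a stem kernel. -/
theorem IsStd.ker_bounds {Γ : Type u} [Group Γ] [Finite Γ] (σ : Γ →* ↥Φ.tG)
    (hσ : Cfsg.IsStemExtension σ) :
    letI : CommGroup σ.ker := { (inferInstance : Group σ.ker) with
      mul_comm := fun a b => Subtype.ext (Subgroup.mem_center_iff.1 (hσ.2.1 a.2) b.1).symm }
    Nat.card (powMonoidHom 2 : σ.ker →* σ.ker).ker ≤ 4 ∧
      Nat.card (powMonoidHom 2 : σ.ker →* σ.ker).range ≤ 3 := by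
  letI : CommGroup σ.ker := { (inferInstance : Group σ.ker) with
    mul_comm := fun a b => Subtype.ext (Subgroup.mem_center_iff.1 (hσ.2.1 a.2) b.1).symm }
  set sq : σ.ker →* σ.ker := powMonoidHom 2 with hsq
  have hcen : σ.ker ≤ Subgroup.center Γ := hσ.2.1
  set S := powSubgroup σ.ker hcen 2 with hS
  haveI : S.Normal := powSubgroup_normal σ.ker hcen 2
  set N : Subgroup Γ := powSubgroup σ.ker hcen 4 with hN
  haveI : N.Normal := powSubgroup_normal σ.ker hcen 4
  have himg : ∀ (M : Subgroup Γ) [M.Normal] (hM : M ≤ σ.ker),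
      Nat.card (QuotientGroup.lift M σ hM).ker = (M.subgroupOf σ.ker).index := by
    intro M _ hM
    rw [QuotientGroup.ker_lift, Subgroup.index_eq_card]
    let g : σ.ker →* σ.ker.map (QuotientGroup.mk' M) := (QuotientGroup.mk' M).subgroupMap σ.ker
    have hg : g.ker = M.subgroupOf σ.ker := by
      ext x
      rw [MonoidHom.mem_ker, Subgroup.mem_subgroupOf, Subtype.ext_iff]
      exact QuotientGroup.eq_one_iff (x : Γ)
    rw [← hg]
    exact (Nat.card_congr (QuotientGroup.quotientKerEquivOfSurjective g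
      (MonoidHom.subgroupMap_surjective _ _)).toEquiv).symm
  have hSsub : S.subgroupOf σ.ker = sq.range := by
    ext x
    rw [Subgroup.mem_subgroupOf]
    constructor
    · rintro ⟨y, hy, e⟩; exact ⟨⟨y, hy⟩, Subtype.ext e⟩
    · rintro ⟨⟨y, hy⟩, rfl⟩; exact ⟨y, hy, rfl⟩
  have hfour : ∀ z ∈ σ.ker, ∃ v ∈ σ.ker, v ^ 4 = z ^ 2 := by
    intro z hz
    have hker : (QuotientGroup.lift N σ (powSubgroup_le _ hcen 4)).ker =
        σ.ker.map (QuotientGroup.mk' N) := QuotientGroup.ker_lift N σ _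
    have h2 := h.sq_eq_one_of_exp_four (isStemExtension_lift σ hσ N (powSubgroup_le _ hcen 4)) (by
      rw [hker]
      rintro _ ⟨w, hw, rfl⟩
      rw [← map_pow]
      exact (QuotientGroup.eq_one_iff _).2 ⟨w, hw, rfl⟩) (QuotientGroup.mk' N z)
      (hker ▸ Subgroup.mem_map_of_mem _ hz)
    rw [← map_pow] at h2
    exact (QuotientGroup.eq_one_iff _).1 h2
  have hodd : ¬ 2 ∣ Nat.card sq.range := by
    intro hdvd
    have hsurj : Function.Surjective (fun x : sq.range => x ^ 2) := by
      rintro ⟨_, ⟨w, hw⟩, rfl⟩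
      obtain ⟨v, hv, hvw⟩ := hfour w hw
      exact ⟨⟨_, ⟨v, hv⟩, rfl⟩, Subtype.ext (Subtype.ext
        (show (v ^ 2) ^ 2 = w ^ 2 by rw [← pow_mul, ← hvw]))⟩
    haveI : Fact (Nat.Prime 2) := ⟨Nat.prime_two⟩
    obtain ⟨s, hs⟩ := exists_prime_orderOf_dvd_card' (G := sq.range) 2 hdvd
    have : s = 1 := Finite.injective_iff_surjective.2 hsurj
      (show s ^ 2 = 1 ^ 2 by rw [one_pow, ← hs, pow_orderOf_eq_one])
    rw [this, orderOf_one] at hs
    exact absurd hs (by norm_num)
  have hidx : ∀ H : Subgroup σ.ker, Nat.card H * H.index = Nat.card σ.ker := fun H => H.card_mul_index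
  have hkr : Nat.card sq.ker * Nat.card sq.range = Nat.card σ.ker := by
    rw [← Subgroup.index_ker sq, hidx]
  refine ⟨?_, ?_⟩
  · have h4 := h.card_ker_le_four (isStemExtension_lift σ hσ S (powSubgroup_le _ hcen 2)) (by
      rw [QuotientGroup.ker_lift]
      rintro _ ⟨w, hw, rfl⟩
      rw [← map_pow]
      exact (QuotientGroup.eq_one_iff _).2 ⟨w, hw, rfl⟩)
    rw [himg, hSsub] at h4
    have h5 := hidx sq.range
    have hpos : 0 < Nat.card sq.range := Nat.card_pos
    rw [← hkr, mul_comm (Nat.card sq.ker)] at h5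
    rwa [Nat.eq_of_mul_eq_mul_left hpos h5] at h4
  · set T : Subgroup Γ := sq.ker.map σ.ker.subtype with hT
    have hTle : T ≤ σ.ker := Subgroup.map_subtype_le _
    haveI : T.Normal := ⟨fun x hx g => by
      rw [Subgroup.mem_center_iff.1 (hcen (hTle hx)) g, mul_inv_cancel_right]; exact hx⟩
    have hTsub : T.subgroupOf σ.ker = sq.ker := by
      rw [hT, Subgroup.subgroupOf, Subgroup.comap_map_eq_self_of_injective]
      exact Subgroup.subtype_injective _
    have hr : Nat.card (QuotientGroup.lift T σ hTle).ker = Nat.card sq.range := by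
      rw [himg T hTle, hTsub, Subgroup.index_ker]
    haveI := h.finite
    letI := Fintype.ofFinite K
    have hK : Fintype.card K = 2 ^ 2 := by rw [← Nat.card_eq_fintype_card]; exact h.card
    haveI : Fact (Nat.Prime 2) := ⟨Nat.prime_two⟩
    haveI : CharP K 2 := charP_of_card_eq_prime_pow (p := 2) (f := 2) (by simpa using hK)
    have h3 := card_ker_le_E6 (p := 2) Φ h.f_eq h.fixed hK le_rfl _
      (isStemExtension_lift σ hσ T hTle)
      (by rw [hr]; exact Nat.prime_two.coprime_iff_not_dvd.2 hodd)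
    rw [hr] at h3
    simpa using h3

theorem IsStd.hasSchurMultiplier :
    Cfsg.HasSchurMultiplier ↥Φ.tG (Multiplicative (ZMod 3 × ZMod 2 × ZMod 2)) := by
  classical
  haveI := h.finite
  letI := Fintype.ofFinite K
  have hK : Fintype.card K = 2 ^ 2 := by rw [← Nat.card_eq_fintype_card]; exact h.card
  refine CfsgLib.SchurTheory.hasSchurMultiplier_iff.2 ?_
  obtain ⟨Γ, iG, iF, σ, hσ, ⟨emul⟩⟩ := CfsgLib.SchurTheory.exists_cover ↥Φ.tG
  obtain ⟨Δ, iD, iDF, τ, hsur, hcen, z₁, z₂, hz₁, hz₂, hexp, n1, n2, n12⟩ := h.exists_fours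
  obtain ⟨f, hf⟩ := CfsgLib.SchurTheory.exists_mult_surjective τ hsur hcen
  have h3 : 3 ∣ Nat.card (CfsgLib.SchurTheory.mult ↥Φ.tG) :=
    three_dvd_mult_E6 Φ h.f_eq hK (by norm_num)
  letI : CommGroup σ.ker := { (inferInstance : Group σ.ker) with
    mul_comm := fun a b => Subtype.ext (Subgroup.mem_center_iff.1 (hσ.2.1 a.2) b.1).symm }
  obtain ⟨ha, hr⟩ := h.ker_bounds σ hσ
  set sq : σ.ker →* σ.ker := powMonoidHom 2 with hsq
  let g : σ.ker →* (τ.ker ⊓ commutator Δ : Subgroup Δ) := f.comp emul.toMonoidHom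
  have hg : Function.Surjective g := hf.comp emul.surjective
  have hrg : sq.range ≤ g.ker := by
    rintro _ ⟨y, rfl⟩
    rw [MonoidHom.mem_ker, powMonoidHom_apply, map_pow]
    exact Subtype.ext (hexp _ (g y).2.1)
  have hfour : 4 ≤ Nat.card (τ.ker ⊓ commutator Δ : Subgroup Δ) := by
    have hsq1 : z₁ * z₁ = 1 := (pow_two z₁).symm.trans (hexp z₁ hz₁.1)
    have n3 : z₁ * z₂ ≠ 1 := fun e => n12 (mul_left_cancel (hsq1.trans e.symm))
    have n4 : z₁ * z₂ ≠ z₁ := fun e => n2 (mul_eq_left.1 e)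
    have n5 : z₁ * z₂ ≠ z₂ := fun e => n1 (mul_eq_right.1 e)
    let F : Fin 4 → (τ.ker ⊓ commutator Δ : Subgroup Δ) :=
      ![1, ⟨z₁, hz₁⟩, ⟨z₂, hz₂⟩, ⟨z₁, hz₁⟩ * ⟨z₂, hz₂⟩]
    have hF : Function.Injective F := by
      intro a b e
      have e' : (F a : Δ) = F b := congrArg Subtype.val e
      fin_cases a <;> fin_cases b <;> first
        | rfl
        | (exfalso
           simp [F] at e'
           first
             | exact n1 e' | exact n1 e'.symm | exact n2 e' | exact n2 e'.symm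
             | exact n12 e' | exact n12 e'.symm | exact n3 e' | exact n3 e'.symm
             | exact n4 e' | exact n4 e'.symm | exact n5 e' | exact n5 e'.symm)
    simpa using Nat.card_le_card_of_injective F hF
  have hkr : Nat.card sq.ker * Nat.card sq.range = Nat.card σ.ker := by
    rw [← Subgroup.index_ker sq, Subgroup.card_mul_index]
  have hrpos : 0 < Nat.card sq.range := Nat.card_pos
  have hker4 : Nat.card sq.ker = 4 := by
    have h1 : g.ker.index = Nat.card (τ.ker ⊓ commutator Δ : Subgroup Δ) := by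
      rw [Subgroup.index_ker, MonoidHom.range_eq_top.2 hg, Subgroup.card_top]
    have h2 : g.ker.index ≤ sq.range.index :=
      Nat.le_of_dvd (Nat.pos_of_ne_zero Subgroup.index_ne_zero_of_finite)
        (Subgroup.index_dvd_of_le hrg)
    have h5 := sq.range.card_mul_index
    rw [← hkr, mul_comm (Nat.card sq.ker)] at h5
    have h6 := Nat.eq_of_mul_eq_mul_left hrpos h5
    omega
  have hr3 : Nat.card sq.range = 3 := by
    rw [← Nat.card_congr emul.toEquiv, ← hkr, hker4] at h3
    omega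
  let m : sq.range × sq.ker →* σ.ker := MonoidHom.coprod sq.range.subtype sq.ker.subtype
  have hm : Function.Bijective m := by
    haveI : Finite (sq.range × sq.ker) := inferInstance
    rw [Nat.bijective_iff_injective_and_card]
    refine ⟨(injective_iff_map_eq_one m).2 fun p hp => ?_, by
      rw [Nat.card_prod, ← hkr, mul_comm]⟩
    have e : ((p.1 : σ.ker)) * (p.2 : σ.ker) = 1 := hp
    have e2 : (p.1 : σ.ker) ^ 2 = 1 := by
      have h2 : (p.2 : σ.ker) ^ 2 = 1 := p.2.2
      rw [eq_inv_of_mul_eq_one_left e, inv_pow, h2, inv_one]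
    have e3 : (p.1 : σ.ker) = 1 := by
      have hc := pow_card_eq_one' (G := sq.range) (x := p.1)
      rw [hr3] at hc
      have hc' : (p.1 : σ.ker) ^ 3 = 1 := by simpa using congrArg Subtype.val hc
      rwa [pow_succ, e2, one_mul] at hc'
    refine Prod.ext (Subtype.ext e3) (Subtype.ext ?_)
    rwa [e3, one_mul] at e
  haveI : Fact (Nat.Prime 3) := ⟨by norm_num⟩
  haveI : IsCyclic sq.range := isCyclic_of_prime_card hr3
  let e3' : Multiplicative (ZMod 3) ≃* sq.range := mulEquivOfCyclicCardEq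
    (by rw [hr3, Nat.card_congr Multiplicative.toAdd, Nat.card_zmod])
  haveI : IsKleinFour sq.ker := by
    haveI : Nontrivial sq.ker := Finite.one_lt_card_iff_nontrivial.1 (by omega)
    refine ⟨hker4, Monoid.exponent_eq_prime_iff Nat.prime_two |>.2 fun x hx => ?_⟩
    exact orderOf_eq_prime (Subtype.ext x.2) hx
  haveI : IsKleinFour (Multiplicative (ZMod 2 × ZMod 2)) := by
    refine ⟨by simp [Nat.card_congr Multiplicative.toAdd],
      Monoid.exponent_eq_prime_iff Nat.prime_two |>.2 fun x hx => orderOf_eq_prime ?_ hx⟩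
    revert x
    decide
  obtain ⟨e2'⟩ := IsKleinFour.nonempty_mulEquiv (G₁ := Multiplicative (ZMod 2 × ZMod 2))
    (G₂ := sq.ker)
  exact ⟨(MulEquiv.prodMultiplicative (ZMod 3) (ZMod 2 × ZMod 2)).trans
    ((e3'.prodCongr e2').trans ((MulEquiv.ofBijective m hm).trans emul))⟩

omit h

/-- The multiplier of `²E₆(2)`. -/
theorem hasSchurMultiplier_twistedE6_two [Fintype K] (hK : Fintype.card K = 4) :
    Cfsg.HasSchurMultiplier ↥(Cfsg.Lie.twistedE6 K 2)
      (Multiplicative (ZMod 3 × ZMod 2 × ZMod 2)) := by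
  have hK' : Fintype.card K = 2 ^ 2 := hK.trans (by norm_num)
  obtain ⟨Ψ, e, hf, hfix, hcard, -⟩ := twistedE6_eq_tG (K := K) Nat.prime_two.isPrimePow hK'
  obtain ⟨ω, hω⟩ := exists_isOmega hK
  rw [e]
  exact IsStd.hasSchurMultiplier (ω := ω)
    ⟨hω, hf, (Nat.card_eq_fintype_card).trans hK', hfix⟩

end CfsgLib.TwistE6Mult
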