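import Cfsg.Agent.TwistE6Mult.CertOneData
import Cfsg.Agent.TwistE6Mult.CertTwoData
import Cfsg.Agent.Schur.PcShaped

/-!
# Checks of the certificates for the `2`-part of the multiplier of `²E₆(2)`
-/

set_option autoImplicit false
set_option Elab.async false
set_option maxRecDepth 20000

namespace CfsgLib.TwistE6Mult

theorem certOne_eqs : certOne.base.eqsCheck = true := by decide +kernel

theorem rows_table : Schur.Pc.tableChk 36 (fun b a => (rows.getD b []).getD a []) = true := by
  decide +kernel

theorem certOne_ruleChecks : ((List.range 36).all fun b => (List.range (b + 1)).all fun a =>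
    certOne.ruleCheck b a) = true := by decide +kernel

theorem certOne_lin : certOne.linCheck = true := by
  rw [Schur.Tail.Cert2.linCheck,
    show Schur.Pc.shaped 2 certOne.base.n certOne.base.rules = true from
      Schur.Pc.shaped_rulesOf rows_table,
    show ((List.range certOne.base.n).all fun b => (List.range (b + 1)).all fun a =>
      certOne.ruleCheck b a) = true from certOne_ruleChecks]
  rfl

theorem certTwo_eqs : certTwo.eqsCheck = true := by decide +kernel

theorem certTwo_ruleChecks : ((List.range 36).all fun b => (List.range (b + 1)).all fun a =>
    certTwo.ruleCheck b a) = true := by decide +kernel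

theorem certTwo_lin : certTwo.linCheck = true := by
  rw [Schur.Tail.Cert.linCheck,
    show Schur.Pc.shaped 2 certTwo.n certTwo.rules = true from
      Schur.Pc.shaped_rulesOf rows_table,
    show ((List.range certTwo.n).all fun b => (List.range (b + 1)).all fun a =>
      certTwo.ruleCheck b a) = true from certTwo_ruleChecks]
  rfl

end CfsgLib.TwistE6Mult
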