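import Cfsg.Agent.TwistE6Mult.Moves
import Cfsg.Agent.TwistE6Mult.CertChecks
import Cfsg.Agent.Schur.TailCertPair

/-!
# Bounds for the kernels of `2`-power exponent over `²E₆(2)`
-/

set_option autoImplicit false
set_option maxRecDepth 20000
set_option linter.style.haveILetI false

namespace CfsgLib.TwistE6Mult

open Cfsg.Lie CfsgLib.Chevalley CfsgLib.GraphTwist CfsgLib.Schur
open scoped MatrixGroups

universe u

variable {K : Type u} [Field K] {ω : K} {Φ : FieldTwist setupE6 K} (h : IsStd Φ ω)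
  {Γ : Type u} [Group Γ] [Finite Γ] {σ : Γ →* ↥Φ.tG}

theorem fusRows_length : fusRows.length = 6 := by decide +kernel

theorem cert_tables : (∀ b a, certOne.base.rule b a = rule b a) ∧
    (∀ f s, certOne.base.img f s = img f s) ∧ (∀ b a, certTwo.rule b a = rule b a) ∧
    ∀ f s, certTwo.img f s = img f s :=
  ⟨fun _ _ => rfl, fun _ _ => rfl, fun _ _ => rfl, fun _ _ => rfl⟩

theorem certOne_sizes : certOne.base.n = 36 ∧ certOne.base.fus.length = 6 ∧ certTwo.n = 36 ∧
    certTwo.fus.length = 6 := ⟨rfl, fusRows_length, rfl, fusRows_length⟩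

attribute [local irreducible] genW

include h

theorem IsStd.card_ker_le_four (hσ : Cfsg.IsStemExtension σ) (hexp : ∀ z ∈ σ.ker, z ^ 2 = 1) :
    Nat.card σ.ker ≤ 4 := by
  classical
  obtain ⟨D, E, hD, hE, hall⟩ := certOne.ker_subset σ hσ hexp certOne_eqs certOne_lin h.uGen
    (fun a b hab hb => by rw [cert_tables.1]; exact h.uGen_rules hab hb)
    (fun f hf => by
      obtain ⟨g, hg⟩ := h.exists_fus f (lt_of_lt_of_eq hf certOne_sizes.2.1)
      exact ⟨g, fun s hs hi => by rw [cert_tables.2.1] at hi ⊢; exact hg s hs hi⟩)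
    h.card_usub.ge h.index_usub
  let F : Bool × Bool → σ.ker := fun p =>
    (bif p.1 then ⟨D, hD⟩ else 1) * (bif p.2 then ⟨E, hE⟩ else 1)
  have hF : Function.Surjective F := by
    rintro ⟨u, hu⟩
    rcases hall u hu with rfl | rfl | rfl | rfl
    · exact ⟨(false, false), Subtype.ext (by simp [F])⟩
    · exact ⟨(true, false), by simp [F]⟩
    · exact ⟨(false, true), by simp [F]⟩
    · exact ⟨(true, true), rfl⟩
  simpa [Nat.card_prod, Nat.card_eq_fintype_card] using Nat.card_le_card_of_surjective F hF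

theorem IsStd.sq_eq_one_of_exp_four (hσ : Cfsg.IsStemExtension σ)
    (hexp : ∀ z ∈ σ.ker, z ^ 4 = 1) : ∀ z ∈ σ.ker, z ^ 2 = 1 := by
  obtain ⟨D, -, hD0, hall⟩ := certTwo.ker_pow_mem σ hσ (fun z hz => hexp z hz) certTwo_eqs
    certTwo_lin h.uGen (fun a b hab hb => by rw [cert_tables.2.2.1]; exact h.uGen_rules hab hb)
    (fun f hf => by
      obtain ⟨g, hg⟩ := h.exists_fus f (lt_of_lt_of_eq hf certOne_sizes.2.2.2)
      exact ⟨g, fun s hs hi => by rw [cert_tables.2.2.2] at hi ⊢; exact hg s hs hi⟩)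
    h.card_usub.ge h.index_usub
  intro z hz
  have h2 := hall z hz
  rw [hD0 rfl, one_pow, Subgroup.zpowers_one_eq_bot, Subgroup.mem_bot] at h2
  exact h2

end CfsgLib.TwistE6Mult
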