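import Cfsg.Agent.GraphTwist.FamilyE6

/-!
# Collection of products of positive root elements of `E₆` over four elements

A field element is coded by a number below four: two bits in the basis `1, ω`.
-/

set_option autoImplicit false
set_option maxRecDepth 20000

namespace CfsgLib.TwistE6Mult

open Cfsg.Lie CfsgLib.Chevalley
open scoped MatrixGroups

variable {K : Type*} [Field K]

/-- A root of `X² + X + 1` in characteristic two. -/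
structure IsOmega (ω : K) : Prop where
  two : (1 : K) + 1 = 0
  sq : ω * ω = ω + 1

/-- The element of a code. -/
def cV (ω : K) : ℕ → K
  | 1 => 1
  | 2 => ω
  | 3 => ω + 1
  | _ => 0

/-- The sum of codes. -/
def addF (a b : ℕ) : ℕ :=
  (([[0, 1, 2, 3], [1, 0, 3, 2], [2, 3, 0, 1], [3, 2, 1, 0]] : List (List ℕ)).getD a []).getD b 0

/-- The product of codes. -/
def mulF (a b : ℕ) : ℕ :=
  (([[0, 0, 0, 0], [0, 1, 2, 3], [0, 2, 3, 1], [0, 3, 1, 2]] : List (List ℕ)).getD a []).getD b 0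

variable {ω : K} (hω : IsOmega ω)
include hω

theorem IsOmega.add_self (x : K) : x + x = 0 := by
  rw [← mul_one x, ← mul_add, hω.two, mul_zero]

theorem IsOmega.neg_eq (x : K) : -x = x := neg_eq_of_add_eq_zero_left (hω.add_self x)

theorem IsOmega.cV_xor {a b : ℕ} (ha : a < 4) (hb : b < 4) :
    cV ω (addF a b) = cV ω a + cV ω b := by
  have h2 : (2 : K) = 0 := by rw [← one_add_one_eq_two, hω.two]
  interval_cases a <;> interval_cases b <;> simp [cV, addF] <;> ring_nf <;> simp [h2]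

theorem IsOmega.cV_mul {a b : ℕ} (ha : a < 4) (hb : b < 4) :
    cV ω (mulF a b) = cV ω a * cV ω b := by
  have h2 : (2 : K) = 0 := by rw [← one_add_one_eq_two, hω.two]
  have h3 : ω ^ 2 = ω + 1 := (pow_two ω).trans hω.sq
  interval_cases a <;> interval_cases b <;> simp [cV, mulF] <;> ring_nf <;>
    simp [h3, h2] <;> ring_nf <;> simp [h2]

omit hω

/-- The sum of two positive roots, or `0`. -/
def sumRows : List (List ℕ) :=
  [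
    [0, 38, 0, 0, 41, 0, 0, 0, 45, 0, 0, 0, 49, 0, 0, 52, 0, 54, 0, 0, 0, 0, 0, 60, 0, 0, 63, 0, 65, 0, 0, 68, 0, 0, 0, 0],
    [38, 0, 0, 40, 0, 0, 0, 44, 0, 0, 0, 48, 0, 0, 51, 0, 0, 0, 55, 0, 0, 0, 59, 0, 0, 62, 0, 0, 0, 66, 0, 0, 69, 0, 0, 0],
    [0, 0, 0, 41, 0, 0, 0, 45, 0, 0, 0, 49, 0, 0, 52, 0, 0, 55, 0, 0, 0, 0, 60, 0, 0, 63, 0, 0, 66, 0, 0, 69, 0, 0, 0, 0],
    [0, 40, 41, 0, 0, 0, 43, 0, 0, 0, 47, 0, 0, 0, 0, 53, 54, 0, 0, 0, 0, 58, 0, 0, 0, 0, 64, 65, 0, 0, 0, 0, 0, 70, 0, 0],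
    [41, 0, 0, 0, 0, 0, 44, 0, 0, 0, 48, 0, 0, 0, 53, 0, 55, 0, 0, 0, 0, 59, 0, 0, 0, 64, 0, 66, 0, 0, 0, 0, 70, 0, 0, 0],
    [0, 0, 0, 0, 0, 0, 45, 0, 0, 0, 49, 0, 0, 0, 54, 55, 0, 0, 0, 0, 0, 60, 0, 0, 0, 65, 66, 0, 0, 0, 0, 70, 0, 0, 0, 0],
    [0, 0, 0, 43, 44, 45, 0, 0, 0, 0, 0, 50, 51, 52, 0, 0, 0, 0, 0, 0, 57, 0, 0, 0, 0, 0, 0, 0, 67, 68, 69, 0, 0, 0, 0, 0],
    [0, 44, 45, 0, 0, 0, 0, 0, 0, 0, 50, 0, 53, 54, 0, 0, 0, 0, 0, 0, 58, 0, 0, 0, 0, 0, 67, 68, 0, 0, 70, 0, 0, 0, 0, 0],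
    [45, 0, 0, 0, 0, 0, 0, 0, 0, 0, 51, 53, 0, 55, 0, 0, 0, 0, 0, 0, 59, 0, 0, 0, 0, 67, 0, 69, 0, 70, 0, 0, 0, 0, 0, 0],
    [0, 0, 0, 0, 0, 0, 0, 0, 0, 0, 52, 54, 55, 0, 0, 0, 0, 0, 0, 0, 60, 0, 0, 0, 0, 68, 69, 0, 70, 0, 0, 0, 0, 0, 0, 0],
    [0, 0, 0, 47, 48, 49, 0, 50, 51, 52, 0, 0, 0, 0, 0, 0, 0, 0, 0, 0, 0, 0, 61, 62, 63, 0, 0, 0, 0, 0, 0, 0, 0, 0, 71, 0],
    [0, 48, 49, 0, 0, 0, 50, 0, 53, 54, 0, 0, 0, 0, 0, 0, 0, 0, 0, 0, 0, 61, 0, 64, 65, 0, 0, 0, 0, 0, 0, 0, 0, 71, 0, 0],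
    [49, 0, 0, 0, 0, 0, 51, 53, 0, 55, 0, 0, 0, 0, 0, 0, 0, 0, 0, 0, 0, 62, 64, 0, 66, 0, 0, 0, 0, 0, 0, 0, 71, 0, 0, 0],
    [0, 0, 0, 0, 0, 0, 52, 54, 55, 0, 0, 0, 0, 0, 0, 0, 0, 0, 0, 0, 0, 63, 65, 66, 0, 0, 0, 0, 0, 0, 0, 71, 0, 0, 0, 0],
    [0, 51, 52, 0, 53, 54, 0, 0, 0, 0, 0, 0, 0, 0, 0, 0, 0, 0, 0, 0, 61, 0, 0, 67, 68, 0, 0, 0, 0, 0, 71, 0, 0, 0, 0, 0],
    [52, 0, 0, 53, 0, 55, 0, 0, 0, 0, 0, 0, 0, 0, 0, 0, 0, 0, 0, 0, 62, 0, 67, 0, 69, 0, 0, 0, 0, 71, 0, 0, 0, 0, 0, 0],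
    [0, 0, 0, 54, 55, 0, 0, 0, 0, 0, 0, 0, 0, 0, 0, 0, 0, 0, 0, 0, 63, 0, 68, 69, 0, 0, 0, 0, 71, 0, 0, 0, 0, 0, 0, 0],
    [54, 0, 55, 0, 0, 0, 0, 0, 0, 0, 0, 0, 0, 0, 0, 0, 0, 0, 0, 0, 64, 67, 0, 0, 70, 0, 0, 71, 0, 0, 0, 0, 0, 0, 0, 0],
    [0, 55, 0, 0, 0, 0, 0, 0, 0, 0, 0, 0, 0, 0, 0, 0, 0, 0, 0, 0, 65, 68, 0, 70, 0, 0, 71, 0, 0, 0, 0, 0, 0, 0, 0, 0],
    [0, 0, 0, 0, 0, 0, 0, 0, 0, 0, 0, 0, 0, 0, 0, 0, 0, 0, 0, 0, 66, 69, 70, 0, 0, 71, 0, 0, 0, 0, 0, 0, 0, 0, 0, 0],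
    [0, 0, 0, 0, 0, 0, 57, 58, 59, 60, 0, 0, 0, 0, 61, 62, 63, 64, 65, 66, 0, 0, 0, 0, 0, 0, 0, 0, 0, 0, 0, 0, 0, 0, 0, 0],
    [0, 0, 0, 58, 59, 60, 0, 0, 0, 0, 0, 61, 62, 63, 0, 0, 0, 67, 68, 69, 0, 0, 0, 0, 0, 0, 0, 0, 0, 0, 0, 0, 0, 0, 0, 0],
    [0, 59, 60, 0, 0, 0, 0, 0, 0, 0, 61, 0, 64, 65, 0, 67, 68, 0, 0, 70, 0, 0, 0, 0, 0, 0, 0, 0, 0, 0, 0, 0, 0, 0, 0, 0],
    [60, 0, 0, 0, 0, 0, 0, 0, 0, 0, 62, 64, 0, 66, 67, 0, 69, 0, 70, 0, 0, 0, 0, 0, 0, 0, 0, 0, 0, 0, 0, 0, 0, 0, 0, 0],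
    [0, 0, 0, 0, 0, 0, 0, 0, 0, 0, 63, 65, 66, 0, 68, 69, 0, 70, 0, 0, 0, 0, 0, 0, 0, 0, 0, 0, 0, 0, 0, 0, 0, 0, 0, 0],
    [0, 62, 63, 0, 64, 65, 0, 0, 67, 68, 0, 0, 0, 0, 0, 0, 0, 0, 0, 71, 0, 0, 0, 0, 0, 0, 0, 0, 0, 0, 0, 0, 0, 0, 0, 0],
    [63, 0, 0, 64, 0, 66, 0, 67, 0, 69, 0, 0, 0, 0, 0, 0, 0, 0, 71, 0, 0, 0, 0, 0, 0, 0, 0, 0, 0, 0, 0, 0, 0, 0, 0, 0],
    [0, 0, 0, 65, 66, 0, 0, 68, 69, 0, 0, 0, 0, 0, 0, 0, 0, 71, 0, 0, 0, 0, 0, 0, 0, 0, 0, 0, 0, 0, 0, 0, 0, 0, 0, 0],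
    [65, 0, 66, 0, 0, 0, 67, 0, 0, 70, 0, 0, 0, 0, 0, 0, 71, 0, 0, 0, 0, 0, 0, 0, 0, 0, 0, 0, 0, 0, 0, 0, 0, 0, 0, 0],
    [0, 66, 0, 0, 0, 0, 68, 0, 70, 0, 0, 0, 0, 0, 0, 71, 0, 0, 0, 0, 0, 0, 0, 0, 0, 0, 0, 0, 0, 0, 0, 0, 0, 0, 0, 0],
    [0, 0, 0, 0, 0, 0, 69, 70, 0, 0, 0, 0, 0, 0, 71, 0, 0, 0, 0, 0, 0, 0, 0, 0, 0, 0, 0, 0, 0, 0, 0, 0, 0, 0, 0, 0],
    [68, 0, 69, 0, 0, 70, 0, 0, 0, 0, 0, 0, 0, 71, 0, 0, 0, 0, 0, 0, 0, 0, 0, 0, 0, 0, 0, 0, 0, 0, 0, 0, 0, 0, 0, 0],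
    [0, 69, 0, 0, 70, 0, 0, 0, 0, 0, 0, 0, 71, 0, 0, 0, 0, 0, 0, 0, 0, 0, 0, 0, 0, 0, 0, 0, 0, 0, 0, 0, 0, 0, 0, 0],
    [0, 0, 0, 70, 0, 0, 0, 0, 0, 0, 0, 71, 0, 0, 0, 0, 0, 0, 0, 0, 0, 0, 0, 0, 0, 0, 0, 0, 0, 0, 0, 0, 0, 0, 0, 0],
    [0, 0, 0, 0, 0, 0, 0, 0, 0, 0, 71, 0, 0, 0, 0, 0, 0, 0, 0, 0, 0, 0, 0, 0, 0, 0, 0, 0, 0, 0, 0, 0, 0, 0, 0, 0],
    [0, 0, 0, 0, 0, 0, 0, 0, 0, 0, 0, 0, 0, 0, 0, 0, 0, 0, 0, 0, 0, 0, 0, 0, 0, 0, 0, 0, 0, 0, 0, 0, 0, 0, 0, 0]]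

/-- The sum of two positive roots, or `0`. -/
def sumR (s r : ℕ) : ℕ := (sumRows.getD (s - 36) []).getD (r - 36) 0

/-- The table agrees with the commutator formula at a pair. -/
def sumChk (s r : ℕ) : Bool :=
  bif Nat.beq (sumR s r) 0 then (chevE6.commTerms s r).isEmpty
  else Nat.blt (sumR s r) 72 &&
    (decide (chevE6.commTerms s r = [(sumR s r, 1, 1, 1)]) ||
      decide (chevE6.commTerms s r = [(sumR s r, -1, 1, 1)]))

theorem sumChk_all : ((List.range 36).all fun r => (List.range r).all fun s =>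
    sumChk (s + 36) (r + 36)) = true := by
  decide +kernel

/-- The table agrees with the commutator formula. -/
theorem sumR_spec (s : ℕ) (_ : s < 36) (r : ℕ) (hr : r < 36) (h : s < r) :
    if sumR (s + 36) (r + 36) = 0 then chevE6.commTerms (s + 36) (r + 36) = []
    else sumR (s + 36) (r + 36) < 72 ∧
      (chevE6.commTerms (s + 36) (r + 36) = [(sumR (s + 36) (r + 36), 1, 1, 1)] ∨
        chevE6.commTerms (s + 36) (r + 36) = [(sumR (s + 36) (r + 36), -1, 1, 1)]) := by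
  have hc := sumChk_all
  simp only [List.all_eq_true, List.mem_range] at hc
  have := hc r hr s h
  rw [sumChk] at this
  split
  · next h0 => rw [h0] at this; simpa using this
  · next h0 =>
    rw [show Nat.beq (sumR (s + 36) (r + 36)) 0 = false from
      Bool.eq_false_iff.2 fun e => h0 (Nat.eq_of_beq_eq_true e), cond_false] at this
    simp only [Bool.and_eq_true, Bool.or_eq_true, decide_eq_true_eq] at this
    exact ⟨Nat.le_of_ble_eq_true this.1, this.2⟩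

theorem goodC : GoodComm chevE6 := GraphTwist.setupE6.good.toGoodComm

/-- A root element by number and code. -/
def xp (ω : K) (p : ℕ × ℕ) : GL chevE6.Idx K :=
  if h : p.1 < chevE6.nroots then X goodC.good ⟨p.1, h⟩ (cV ω p.2) else 1

/-- The product of a word. -/
def xw (ω : K) (w : List (ℕ × ℕ)) : GL chevE6.Idx K := (w.map (xp ω)).prod

theorem xw_cons (p : ℕ × ℕ) (w : List (ℕ × ℕ)) : xw ω (p :: w) = xp ω p * xw ω w := by
  simp [xw]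

theorem xw_append (u w : List (ℕ × ℕ)) : xw ω (u ++ w) = xw ω u * xw ω w := by simp [xw]

/-- Insertion of a root element at the left of a sorted word. -/
def ins : ℕ → ℕ → ℕ → List (ℕ × ℕ) → List (ℕ × ℕ)
  | 0, r, t, w => (r, t) :: w
  | _ + 1, r, t, [] => bif Nat.beq t 0 then [] else [(r, t)]
  | f + 1, r, t, (s, u) :: w =>
    bif Nat.beq t 0 then (s, u) :: w
    else bif Nat.beq r s && Nat.blt t 4 && Nat.blt u 4 then
      bif Nat.beq (addF t u) 0 then w else (r, addF t u) :: w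
    else bif Nat.blt s r && Nat.ble 36 s && Nat.blt r 72 && Nat.blt t 4 && Nat.blt u 4 then
      bif Nat.beq (sumR s r) 0 then ins f s u (ins f r t w)
      else ins f s u (ins f r t (ins f (sumR s r) (mulF t u) w))
    else (r, t) :: (s, u) :: w

/-- The sorted form of a word. -/
def collectW (w : List (ℕ × ℕ)) : List (ℕ × ℕ) := w.foldr (fun p acc => ins 48 p.1 p.2 acc) []

theorem xp_zero (r : ℕ) : xp ω (r, 0) = 1 := by
  simp only [xp]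
  split
  · exact X_zero _ _
  · rfl

include hω

theorem xp_merge (r : ℕ) {t u : ℕ} (ht : t < 4) (hu : u < 4) :
    xp ω (r, addF t u) = xp ω (r, t) * xp ω (r, u) := by
  simp only [xp]
  split
  · rw [X_mul, hω.cV_xor ht hu]
  · rw [one_mul]

theorem xp_swap {r s t u : ℕ} (hsr : s < r) (hs : 36 ≤ s) (hr : r < 72) (ht : t < 4) (hu : u < 4) :
    xp ω (r, t) * xp ω (s, u) = bif Nat.beq (sumR s r) 0 then xp ω (s, u) * xp ω (r, t)
      else xp ω (s, u) * (xp ω (r, t) * xp ω (sumR s r, mulF t u)) := by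
  have h := sumR_spec (s - 36) (by omega) (r - 36) (by omega) (by omega)
  rw [show s - 36 + 36 = s by omega, show r - 36 + 36 = r by omega] at h
  have hn : chevE6.nroots = 72 := by decide +kernel
  have hr' : r < chevE6.nroots := by omega
  have hs' : s < chevE6.nroots := by omega
  have key := X_comm goodC (R := K) ⟨s, hs'⟩ ⟨r, hr'⟩ (fun e => by
      have := congrArg Fin.val e; simp only at this; omega)

    (fun e => by
      have h1 : ∀ s : Root chevE6, 36 ≤ (s : ℕ) → (s.rev : ℕ) < 36 := by decide +kernel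
      have h2 : r = _ := congrArg Fin.val e
      have := h1 ⟨s, hs'⟩ hs
      omega) (cV ω u) (cV ω t)
  have e1 : xp ω (r, t) = X goodC.good ⟨r, hr'⟩ (cV ω t) := dif_pos hr'
  have e2 : xp ω (s, u) = X goodC.good ⟨s, hs'⟩ (cV ω u) := dif_pos hs'
  rw [e1, e2, key, commRhs]
  by_cases h0 : sumR s r = 0
  · rw [if_pos h0] at h
    rw [h0, show (Nat.beq 0 0) = true from rfl, cond_true, h]
    simp [wordGL]
  · rw [if_neg h0] at h
    rw [show Nat.beq (sumR s r) 0 = false from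
      Bool.eq_false_iff.2 fun e => h0 (Nat.eq_of_beq_eq_true e), cond_false, mul_assoc]
    have e3 : xp ω (sumR s r, mulF t u) =
        X goodC.good ⟨sumR s r, by omega⟩ (cV ω t * cV ω u) := by
      rw [← hω.cV_mul ht hu]; exact dif_pos (show sumR s r < chevE6.nroots by omega)
    rw [e3]
    rcases h.2 with h | h <;> rw [h] <;>
      simp [wordGL, show sumR s r < chevE6.nroots by omega, hω.neg_eq, mul_comm (cV ω u)]

theorem xw_ins : ∀ (f r t : ℕ) (w : List (ℕ × ℕ)),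
    xw ω (ins f r t w) = xp ω (r, t) * xw ω w := by
  intro f
  induction f with
  | zero => intro r t w; rw [ins, xw_cons]
  | succ f ih =>
    intro r t w
    match w with
    | [] =>
      rw [ins]
      cases h : Nat.beq t 0
      · rw [cond_false, xw_cons]
      · rw [cond_true, Nat.eq_of_beq_eq_true h, xp_zero, one_mul]
    | (s, u) :: w =>
      rw [ins]
      cases h : Nat.beq t 0
      · rw [cond_false]
        cases h1 : Nat.beq r s && Nat.blt t 4 && Nat.blt u 4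
        · rw [cond_false]
          cases h2 : Nat.blt s r && Nat.ble 36 s && Nat.blt r 72 && Nat.blt t 4 && Nat.blt u 4
          · rw [cond_false, xw_cons]
          · rw [cond_true]
            simp only [Bool.and_eq_true] at h2
            have e := xp_swap hω (Nat.le_of_ble_eq_true h2.1.1.1.1)
              (Nat.le_of_ble_eq_true h2.1.1.1.2) (Nat.le_of_ble_eq_true h2.1.1.2)
              (Nat.le_of_ble_eq_true h2.1.2) (Nat.le_of_ble_eq_true h2.2)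
            rw [xw_cons (s, u), ← mul_assoc (xp ω (r, t)), e]
            cases Nat.beq (sumR s r) 0
            · simp only [cond_false, ih, mul_assoc]
            · simp only [cond_true, ih, mul_assoc]
        · rw [cond_true]
          simp only [Bool.and_eq_true] at h1
          obtain rfl := Nat.eq_of_beq_eq_true h1.1.1
          have e := xp_merge hω r (Nat.le_of_ble_eq_true h1.1.2) (Nat.le_of_ble_eq_true h1.2)
          rw [xw_cons (r, u), ← mul_assoc, ← e]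
          cases h3 : Nat.beq (addF t u) 0
          · rw [cond_false, xw_cons]
          · rw [cond_true, Nat.eq_of_beq_eq_true h3, xp_zero, one_mul]
      · rw [cond_true, Nat.eq_of_beq_eq_true h, xp_zero, one_mul]

theorem xw_collectW (w : List (ℕ × ℕ)) : xw ω (collectW w) = xw ω w := by
  induction w with
  | nil => rfl
  | cons p w ih =>
    rw [xw_cons, ← ih, ← xw_ins hω 48]
    rfl

/-- Words with the same sorted form give the same element. -/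
theorem xw_eq {u w : List (ℕ × ℕ)} (h : (collectW u == collectW w) = true) :
    xw ω u = xw ω w := by
  rw [← xw_collectW hω u, eq_of_beq h, xw_collectW hω]

end CfsgLib.TwistE6Mult
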