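import Cfsg.Agent.TwistE6Mult.Gens
import Cfsg.Agent.TwistE6Mult.CoverData

/-!
# Checks for the double cover

Only the rules are checked on the points; everything else is checked by collection with the rules
of the cover.
-/

set_option autoImplicit false
set_option Elab.async false
set_option maxRecDepth 20000

namespace CfsgLib.TwistE6Mult

open CfsgLib.GraphTwist

/-- The image of a point under a table. -/
def tabImg (T j : ℕ) : ℕ := Nat.land (Nat.shiftRight T (Nat.mul 8 j)) 255

/-- The image of a point under a generator. -/
def pimg (s j : ℕ) : ℕ := tabImg (permTab.getD s 0) j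

/-- The image of a point under the inverse of a generator. -/
def pinv (s j : ℕ) : ℕ := tabImg (permInvTab.getD s 0) j

/-- The central term of a rule. -/
def eps (b a : ℕ) : Bool := (epsRows.getD b []).getD a false

/-- The right hand side of the rule for `(b, a)` in the cover. -/
def crule (b a : ℕ) : List ℕ :=
  bif Nat.blt b 36 then rule b a ++ (bif eps b a then [36] else [])
  else bif Nat.beq a 36 then [] else [a, 36]

/-- The action of a word. -/
def pact : List ℕ → ℕ → ℕ
  | [], j => j
  | s :: w, j => pimg s (pact w j)

/-- The tables are inverse permutations. -/
def permChk : Bool :=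
  Nat.beq permTab.length 37 && Nat.beq permInvTab.length 37 &&
  (List.range 37).all fun s => (List.range 256).all fun j =>
    Nat.beq (pinv s (pimg s j)) j && Nat.beq (pimg s (pinv s j)) j

/-- The rules hold on the points. -/
def permRuleChk : Bool :=
  (List.range 37).all fun b => (List.range (b + 1)).all fun a => (List.range 256).all fun j =>
    Nat.beq (pimg b (pimg a j)) (pact (crule b a) j)

/-- The rule words name generators. -/
def ruleLtChk : Bool :=
  (List.range 37).all fun b => (List.range (b + 1)).all fun a =>
    (crule b a).all (fun s => Nat.blt s 37)

/-- Insertion of a generator at the left of a normal word. -/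
def insC : ℕ → ℕ → List ℕ → List ℕ
  | 0, a, w => a :: w
  | _ + 1, a, [] => [a]
  | f + 1, a, b :: w =>
    bif Nat.ble b a && Nat.blt a 37 then (crule a b).foldr (insC f) w else a :: b :: w

/-- The normal form of a word. -/
def nfC (w : List ℕ) : List ℕ := w.foldr (insC 64) []

/-- Two words agree in the cover. -/
def ceq (u w : List ℕ) : Bool := nfC u == nfC w

/-- The image of a generator under the map `f` of the cover. -/
def phi (f s : ℕ) : List ℕ := (phiRows.getD f []).getD s []

/-- The image of a word. -/
def phiW (f : ℕ) (w : List ℕ) : List ℕ := w.flatMap (phi f)

/-- The generators kept by the map `f`. -/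
def away (f : ℕ) : List ℕ := awayRows.getD f []

/-- The generators of the fundamental orbit `f`. -/
def poles (f : ℕ) : List ℕ := poleRows.getD f []

/-- The `e`th product of generators of a fundamental orbit. -/
def poleW (f e : ℕ) : List ℕ :=
  (List.range (poles f).length).flatMap fun i =>
    bif Nat.beq ((Nat.shiftRight e i) % 2) 1 then [(poles f).getD i 0] else []

/-- The decomposition of the product of a generator and the `e`th pole word. -/
def split (f e s : ℕ) : ℕ × List ℕ :=
  ((splitRows.getD f []).getD e []).getD s (0, [])

/-- The maps respect the rules. -/
def phiChk : Bool :=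
  (List.range 5).all fun f =>
    (away f).all (fun s => Nat.blt s 37 && (phi f s).all (fun t => Nat.blt t 37)) &&
    Nat.beq (away f).length (bif Nat.blt f 4 then 37 - (poles f).length else 37) &&
    (away f).contains 36 && (phi f 36 == [36]) &&
    (List.range (away f).length).all fun j => (List.range (j + 1)).all fun i =>
      (crule ((away f).getD j 0) ((away f).getD i 0)).all (fun s => (away f).contains s) &&
        ceq (phiW f [(away f).getD j 0, (away f).getD i 0])
          (phiW f (crule ((away f).getD j 0) ((away f).getD i 0)))

/-- The projections of the maps are the tabled ones. -/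
def phiImgChk : Bool :=
  (List.range 5).all fun f => (away f).all fun s =>
    Nat.beq s 36 ||
      bif Nat.blt f 4 then
        Nat.blt (img f s) 36 && ((phi f s).filter (fun t => Nat.blt t 36) == [img f s])
      else (phi f s).filter (fun t => Nat.blt t 36) == torRows.getD s []

/-- Products with pole words. -/
def splitChk : Bool :=
  (List.range 4).all fun f =>
    (List.range (2 ^ (poles f).length)).all fun e => (List.range 37).all fun s =>
      Nat.blt (split f e s).1 (2 ^ (poles f).length) &&
        (split f e s).2.all (fun t => (away f).contains t) &&
        ceq (s :: poleW f e) (poleW f (split f e s).1 ++ (split f e s).2)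

/-- The parameter of a pole word. -/
def poleT (f e : ℕ) : ℕ :=
  (([[0, 3, 2, 1], [0, 3, 2, 1], [0, 1], [0, 1]] : List (List ℕ)).getD f []).getD e 0

/-- The element of the fundamental orbit `f` with parameter `t`. -/
def spW (f t : ℕ) : List (ℕ × ℕ) :=
  bif Nat.blt f 2 then [(cfgE6.sp f, t), (cfgE6.S.σf (cfgE6.sp f), sqF t)] else [(cfgE6.sp f, t)]

/-- The pole words give the fundamental orbit elements. -/
def poleChk : Bool :=
  (List.range 4).all fun f => (List.range (2 ^ (poles f).length)).all fun e =>
    (poleW f e).all (fun t => Nat.blt t 36) &&
    (Nat.beq e 0 ||
      (Nat.blt 0 (poleT f e) && Nat.blt (poleT f e) 4 &&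
        collectW (gw (poleW f e)) == collectW (spW f (poleT f e))))

/-- The `i`th word of a commutator row. -/
def cw (r i : ℕ) : List ℕ := (comRows.getD r []).getD i []

/-- The four rows: pairs of commutators, agreeing downstairs. -/
def comChk : Bool :=
  (List.range 4).all fun r =>
    (List.range 8).all (fun i => (cw r i).all fun s => Nat.blt s 37) &&
    [(0, 2), (1, 3), (4, 6), (5, 7)].all (fun p : ℕ × ℕ => ceq (cw r p.2 ++ cw r p.1) []) &&
    ceq (cw r 0 ++ cw r 1 ++ cw r 2 ++ cw r 3)
      (cw r 4 ++ cw r 5 ++ cw r 6 ++ cw r 7 ++ bif Nat.beq r 0 || Nat.beq r 3 then [36] else [])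

/-- The image of a word under the diagonal automorphism. -/
def delW (w : List ℕ) : List ℕ := w.flatMap fun s => delRows.getD s []

/-- The diagonal automorphism moves the generators and the commutator rows as tabled. -/
def delChk : Bool :=
  ((List.range 36).all fun s =>
    collectW (actW id delExp (genW s)) == collectW (gw (delRows.getD s []))) &&
  (List.range 2).all fun r => (List.range 8).all fun i =>
    collectW (gw (delW ((cw r i).filter fun t => Nat.blt t 36))) ==
      collectW (gw ((cw (2 + r) i).filter fun t => Nat.blt t 36))

theorem pz_ne : pact [36] 0 ≠ 0 := by decide +kernel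

theorem ruleLtChk_true : ruleLtChk = true := by decide +kernel

theorem phiChk_true : phiChk = true := by decide +kernel

theorem phiImgChk_true : phiImgChk = true := by decide +kernel

theorem splitChk_true : splitChk = true := by decide +kernel

theorem poleChk_true : poleChk = true := by decide +kernel

theorem comChk_true : comChk = true := by decide +kernel

theorem delChk_true : delChk = true := by decide +kernel

theorem permChk_true : permChk = true := by decide +kernel

theorem permRuleChk_true : permRuleChk = true := by decide +kernel

end CfsgLib.TwistE6Mult
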