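import Cfsg.Agent.TwistE6Mult.Group
import Cfsg.Agent.TwistE6Mult.CoverChecks
import Cfsg.Agent.Schur.PcShaped

/-!
# A double cover of the unipotent subgroup of `²E₆(2)`

It is generated inside `²E₆(2) × Perm (Fin 256)`; the last generator is central of order two and
spans the kernel of the projection.
-/

set_option autoImplicit false
set_option maxRecDepth 20000
set_option linter.style.haveILetI false

namespace CfsgLib.TwistE6Mult

open Cfsg.Lie CfsgLib.Chevalley CfsgLib.GraphTwist CfsgLib.Schur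
open scoped MatrixGroups

universe u

theorem tabImg_lt (T j : ℕ) : tabImg T j < 256 := Nat.lt_succ_of_le Nat.and_le_right

/-- The image of a point as an element of `Fin 256`. -/
def pfun (s : ℕ) (j : Fin 256) : Fin 256 := ⟨pimg s j, tabImg_lt _ _⟩

theorem perm_inv {s : ℕ} (hs : s < 37) {j : ℕ} (hj : j < 256) :
    pinv s (pimg s j) = j ∧ pimg s (pinv s j) = j := by
  have h := permChk_true
  simp only [permChk, Bool.and_eq_true, List.all_eq_true, List.mem_range] at h
  exact ⟨Nat.eq_of_beq_eq_true (h.2 s hs j hj).1, Nat.eq_of_beq_eq_true (h.2 s hs j hj).2⟩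

/-- The permutation of a generator. -/
def perm (s : ℕ) : Equiv.Perm (Fin 256) :=
  if h : s < 37 then
    ⟨pfun s, fun j => ⟨pinv s j, tabImg_lt _ _⟩, fun j => Fin.ext (perm_inv h j.2).1,
      fun j => Fin.ext (perm_inv h j.2).2⟩
  else 1

theorem perm_apply {s : ℕ} (hs : s < 37) (j : Fin 256) : (perm s j : ℕ) = pimg s j := by
  rw [perm, dif_pos hs]; rfl

theorem crule_lt {b a : ℕ} (hab : a ≤ b) (hb : b < 37) {s : ℕ} (hs : s ∈ crule b a) : s < 37 := by
  have h := ruleLtChk_true
  simp only [ruleLtChk, List.all_eq_true, List.mem_range] at h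
  exact Nat.le_of_ble_eq_true (h b hb a (by omega) s hs)

theorem rule_lt {b a : ℕ} (hab : a ≤ b) (hb : b < 36) : ∀ s ∈ rule b a, s < 36 := by
  revert a
  revert b
  decide +kernel

theorem crule_filter {b a : ℕ} (hab : a ≤ b) (hb : b < 36) :
    (crule b a).filter (fun s => Nat.blt s 36) = rule b a := by
  rw [crule, show Nat.blt b 36 = true from Nat.ble_eq_true_of_le hb, cond_true, List.filter_append,
    (List.filter_eq_self (p := fun s => Nat.blt s 36)).2
      fun s hs => Nat.ble_eq_true_of_le (rule_lt hab hb s hs)]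
  cases eps b a <;> simp [show Nat.blt 36 36 = false from rfl]

variable {K : Type u} [Field K] {ω : K} {Φ : FieldTwist setupE6 K} (h : IsStd Φ ω)

/-- The ambient group. -/
abbrev Amb (Φ : FieldTwist setupE6 K) : Type u := ↥Φ.tG × Equiv.Perm (Fin 256)

include h

/-- The generators of the cover. -/
def IsStd.xg (i : ℕ) : Amb Φ := (if i < 36 then h.uGen i else 1, perm i)

theorem IsStd.xg_fst {i : ℕ} (hi : i < 36) : (h.xg i).1 = h.uGen i := if_pos hi

theorem IsStd.xg_fst_ge {i : ℕ} (hi : ¬ i < 36) : (h.xg i).1 = 1 := if_neg hi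

theorem IsStd.ev_xg_snd : ∀ w : List ℕ, (∀ s ∈ w, s < 37) → ∀ j : Fin 256,
    ((Pc.ev h.xg w).2 j : ℕ) = pact w j
  | [], _, j => rfl
  | s :: w, hw, j => by
    rw [Pc.ev_cons, Prod.snd_mul, Equiv.Perm.mul_apply,
      show (h.xg s).2 = perm s from rfl, perm_apply (hw s List.mem_cons_self),
      IsStd.ev_xg_snd w (fun t ht => hw t (List.mem_cons_of_mem _ ht)) j]
    rfl

theorem IsStd.ev_xg_fst (w : List ℕ) :
    (Pc.ev h.xg w).1 = Pc.ev h.uGen (w.filter fun s => Nat.blt s 36) := by
  induction w with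
  | nil => rfl
  | cons s w ih =>
    rw [Pc.ev_cons, Prod.fst_mul, ih]
    cases hs : Nat.blt s 36 with
    | true =>
      rw [List.filter_cons_of_pos (p := fun s => Nat.blt s 36) hs, Pc.ev_cons,
        h.xg_fst (Nat.le_of_ble_eq_true hs)]
    | false =>
      rw [List.filter_cons_of_neg (p := fun s => Nat.blt s 36) (Bool.eq_false_iff.1 hs),
        h.xg_fst_ge, one_mul]
      exact fun hlt => Bool.eq_false_iff.1 hs (Nat.ble_eq_true_of_le hlt)

theorem IsStd.xg_rules {b a : ℕ} (hab : a ≤ b) (hb : b < 37) :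
    h.xg b * h.xg a = Pc.ev h.xg (crule b a) := by
  refine Prod.ext ?_ (Equiv.ext fun j => Fin.ext ?_)
  · rw [Prod.fst_mul, h.ev_xg_fst]
    by_cases h36 : b < 36
    · rw [crule_filter hab h36, ← h.uGen_rules hab h36, h.xg_fst h36, h.xg_fst (by omega)]
    · obtain rfl : b = 36 := by omega
      rw [h.xg_fst_ge h36, one_mul, crule, show Nat.blt 36 36 = false from rfl, cond_false]
      by_cases ha : a = 36
      · subst ha
        rw [h.xg_fst_ge h36]
        rfl
      · rw [h.xg_fst (show a < 36 by omega),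
          show Nat.beq a 36 = false from
            Bool.eq_false_iff.2 fun e => ha (Nat.eq_of_beq_eq_true e), cond_false,
          List.filter_cons_of_pos (p := fun s => Nat.blt s 36)
            (Nat.ble_eq_true_of_le (show a < 36 by omega)),
          List.filter_cons_of_neg (p := fun s => Nat.blt s 36) (by decide), Pc.ev_cons,
          List.filter_nil, Pc.ev_nil, mul_one]
  · have e := permRuleChk_true
    simp only [permRuleChk, List.all_eq_true, List.mem_range] at e
    have h2 := Nat.eq_of_beq_eq_true (e b hb a (by omega) j j.2)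
    rw [h.ev_xg_snd _ (fun s hs => crule_lt hab hb hs), ← h2, Prod.snd_mul,
      Equiv.Perm.mul_apply, show (h.xg b).2 = perm b from rfl, show (h.xg a).2 = perm a from rfl,
      perm_apply hb, perm_apply (show a < 37 by omega)]

theorem IsStd.ev_insC : ∀ (f a : ℕ) (w : List ℕ),
    Pc.ev h.xg (insC f a w) = h.xg a * Pc.ev h.xg w := by
  intro f
  induction f with
  | zero => intro a w; rw [insC, Pc.ev_cons]
  | succ f ih =>
    intro a w
    match w with
    | [] => rw [insC, Pc.ev_cons]
    | b :: w =>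
      rw [insC]
      cases hg : Nat.ble b a && Nat.blt a 37 with
      | true =>
        simp only [Bool.and_eq_true] at hg
        rw [cond_true, Pc.ev_cons, ← mul_assoc,
          h.xg_rules (Nat.le_of_ble_eq_true hg.1) (Nat.le_of_ble_eq_true hg.2)]
        generalize crule a b = r
        induction r with
        | nil => simp
        | cons x r ihr => rw [List.foldr_cons, ih, ihr, Pc.ev_cons, mul_assoc]
      | false => rw [cond_false, Pc.ev_cons]

theorem IsStd.ev_nfC (w : List ℕ) : Pc.ev h.xg (nfC w) = Pc.ev h.xg w := by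
  induction w with
  | nil => rfl
  | cons a w ih =>
    rw [show nfC (a :: w) = insC 64 a (nfC w) from rfl, h.ev_insC, ih, Pc.ev_cons]

theorem IsStd.ev_eq {u w : List ℕ} (e : ceq u w = true) : Pc.ev h.xg u = Pc.ev h.xg w := by
  rw [← h.ev_nfC u, show nfC u = nfC w from eq_of_beq e, h.ev_nfC]

/-- The cover. -/
def IsStd.cov : Subgroup (Amb Φ) := Pc.tailSubgroup h.xg 37 0

theorem IsStd.xg_mem (i : ℕ) : h.xg i ∈ h.cov := by
  by_cases hi : i < 37
  · exact Pc.gen_mem_tailSubgroup h.xg (Nat.zero_le _) hi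
  · have : h.xg i = 1 :=
      Prod.ext (h.xg_fst_ge (by omega)) (by show perm i = 1; rw [perm, dif_neg hi])
    rw [this]; exact one_mem _

/-- The generators as elements of the cover. -/
def IsStd.xc (i : ℕ) : h.cov := ⟨h.xg i, h.xg_mem i⟩

theorem IsStd.coe_ev_xc (w : List ℕ) :
    ((Pc.ev h.xc w : h.cov) : Amb Φ) = Pc.ev h.xg w := by
  induction w with
  | nil => rfl
  | cons s w ih => rw [Pc.ev_cons, Pc.ev_cons, Subgroup.coe_mul, ih]; rfl

/-- The projection. -/
def IsStd.proj : h.cov →* ↥Φ.tG := (MonoidHom.fst _ _).comp h.cov.subtype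

/-- The central element. -/
def IsStd.zc : h.cov := h.xc 36

theorem IsStd.proj_zc : h.proj h.zc = 1 := h.xg_fst_ge (lt_irrefl 36)

theorem IsStd.range_proj : h.proj.range = h.usub := by
  rw [IsStd.proj, MonoidHom.range_comp, Subgroup.range_subtype, IsStd.cov, IsStd.usub,
    Pc.tailSubgroup, Pc.tailSubgroup, MonoidHom.map_closure]
  refine le_antisymm ((Subgroup.closure_le _).2 ?_) ((Subgroup.closure_le _).2 ?_)
  · rintro _ ⟨_, ⟨i, hi, rfl⟩, rfl⟩
    by_cases hi6 : i < 36
    · exact Subgroup.subset_closure ⟨i, ⟨hi.1, hi6⟩, (h.xg_fst hi6).symm⟩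
    · rw [MonoidHom.coe_fst, h.xg_fst_ge hi6]; exact one_mem _
  · rintro _ ⟨i, hi, rfl⟩
    rw [Set.mem_Ico] at hi
    refine Subgroup.subset_closure ⟨h.xg i, ⟨i, ⟨hi.1, by omega⟩, rfl⟩, ?_⟩
    exact h.xg_fst hi.2

omit h in
/-- The rules of the cover. -/
def cRules : Pc.Rules :=
  (List.range 37).flatMap fun b => (List.range (b + 1)).map fun a => ([b, a], crule b a)

omit h in
theorem cRules_shaped : Pc.shaped 2 37 cRules = true :=
  Pc.shaped_rulesOf (by decide +kernel : Pc.tableChk 37 crule = true)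

theorem IsStd.finite_amb : Finite (Amb Φ) := by
  haveI := h.finite
  infer_instance

theorem IsStd.card_cov_le : Nat.card h.cov ≤ 2 ^ 37 := by
  haveI := h.finite_amb
  refine Pc.card_tailSubgroup_le h.xg cRules_shaped (fun r hr => ?_) 37 0 (Nat.zero_add _)
  simp only [cRules, List.mem_flatMap, List.mem_map, List.mem_range] at hr
  obtain ⟨b, hb, a, ha, rfl⟩ := hr
  simp only [Pc.ev_cons, Pc.ev_nil, mul_one]
  exact h.xg_rules (by omega) hb

theorem IsStd.zc_ne_one : h.zc ≠ 1 := by
  intro e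
  have := congrArg (fun v : h.cov => ((v : Amb Φ).2 0 : ℕ)) e
  refine pz_ne ?_
  rw [show pact [36] 0 = ((Pc.ev h.xg [36]).2 0 : ℕ) from
    (h.ev_xg_snd [36] (by simp) 0).symm, Pc.ev_cons, Pc.ev_nil, mul_one]
  exact this

theorem IsStd.zc_mul_self : h.zc * h.zc = 1 := by
  refine Subtype.ext ?_
  show h.xg 36 * h.xg 36 = 1
  rw [h.xg_rules le_rfl (by norm_num)]
  rfl

theorem IsStd.zc_central : h.zc ∈ Subgroup.center h.cov := by
  rw [Subgroup.mem_center_iff]
  rintro ⟨v, hv⟩
  refine Subtype.ext ?_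
  show v * h.xg 36 = h.xg 36 * v
  have key : h.cov ≤ Subgroup.centralizer {h.xg 36} := by
    rw [IsStd.cov, Pc.tailSubgroup, Subgroup.closure_le]
    rintro _ ⟨i, hi, rfl⟩
    rw [Set.mem_Ico] at hi
    rw [SetLike.mem_coe, Subgroup.mem_centralizer_singleton_iff]
    by_cases h6 : i = 36
    · rw [h6]
    · rw [h.xg_rules (show i ≤ 36 by omega) (by norm_num : (36 : ℕ) < 37), crule,
        show Nat.blt 36 36 = false from rfl, cond_false, show Nat.beq i 36 = false from
          Bool.eq_false_iff.2 fun e => h6 (Nat.eq_of_beq_eq_true e), cond_false]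
      simp only [Pc.ev_cons, Pc.ev_nil, mul_one]
  exact Subgroup.mem_centralizer_singleton_iff.1 (key hv)

theorem IsStd.ker_proj_two : Nat.card h.proj.ker = 2 := by
  haveI := h.finite_amb
  have h1 := Subgroup.card_eq_card_quotient_mul_card_subgroup h.proj.ker
  have h2 : Nat.card (h.cov ⧸ h.proj.ker) = 2 ^ 36 := by
    rw [Nat.card_congr (QuotientGroup.quotientKerEquivRange h.proj).toEquiv, h.range_proj,
      h.card_usub]
  rw [h2] at h1
  have hle := h.card_cov_le
  have h3 : 1 < Nat.card h.proj.ker := by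
    rw [Finite.one_lt_card_iff_nontrivial]
    exact ⟨⟨1, one_mem _⟩, ⟨h.zc, h.proj_zc⟩,
      fun e => h.zc_ne_one (congrArg Subtype.val e).symm⟩
  have h4 : Nat.card h.proj.ker ≤ 2 := by
    by_contra hcon
    have : 2 ^ 36 * 3 ≤ 2 ^ 36 * Nat.card h.proj.ker := Nat.mul_le_mul_left _ (by omega)
    omega
  omega

theorem IsStd.card_cov : Nat.card h.cov = 2 ^ 37 := by
  rw [Subgroup.card_eq_card_quotient_mul_card_subgroup h.proj.ker,
    Nat.card_congr (QuotientGroup.quotientKerEquivRange h.proj).toEquiv, h.range_proj,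
    h.card_usub, h.ker_proj_two]
  norm_num

theorem IsStd.proj_ker (v : h.cov) (hv : h.proj v = 1) : v = 1 ∨ v = h.zc := by
  by_contra hcon
  push Not at hcon
  have h2 := (Nat.card_eq_two_iff' (1 : h.proj.ker)).1 h.ker_proj_two
  exact hcon.2 (congrArg Subtype.val (h2.unique (y₁ := ⟨v, hv⟩) (y₂ := ⟨h.zc, h.proj_zc⟩)
    (fun e => hcon.1 (congrArg Subtype.val e)) fun e => h.zc_ne_one (congrArg Subtype.val e)))

end CfsgLib.TwistE6Mult
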