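import Cfsg.Agent.TwistE6Mult.Moves
import Cfsg.Agent.TwistE6Mult.Cover
import Cfsg.Agent.Schur.StableBN

/-!
# The double cover is stable
-/

set_option autoImplicit false
set_option maxRecDepth 20000
set_option linter.style.haveILetI false

namespace CfsgLib.TwistE6Mult

open Cfsg.Lie CfsgLib.Chevalley CfsgLib.GraphTwist CfsgLib.Schur
open scoped MatrixGroups Pointwise

universe u

/-- The rule for `(j, i)` in the part kept by the map `f`, renumbered. -/
def dRule (f j i : ℕ) : List ℕ :=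
  (crule ((away f).getD j 0) ((away f).getD i 0)).map fun s => (away f).idxOf s

/-- The rules of the part kept by the map `f`, renumbered. -/
def dRules (f : ℕ) : Pc.Rules := Pc.rulesOf (away f).length (dRule f)

theorem dRule_chk : ∀ f < 5, Pc.tableChk (away f).length (dRule f) = true := by
  decide +kernel

theorem dRules_shaped (f : ℕ) (hf : f < 5) :
    Pc.shaped 2 (away f).length (dRules f) = true :=
  Pc.shaped_rulesOf (dRule_chk f hf)

theorem away_getD_idx : ∀ f < 5,
    (away f).all (fun s => Nat.beq ((away f).getD ((away f).idxOf s) 0) s) = true := by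
  decide +kernel

theorem away_idx_getD : ∀ f < 5, ((List.range (away f).length).all fun i =>
    Nat.beq ((away f).idxOf ((away f).getD i 0)) i && Nat.ble ((away f).getD i 0) 36) = true := by
  decide +kernel

theorem away_mono : ∀ f < 5, ((List.range (away f).length).all fun j =>
    (List.range (j + 1)).all fun i => Nat.ble ((away f).getD i 0) ((away f).getD j 0)) = true := by
  decide +kernel

theorem img_invol : ∀ f < 4, ((away f).all fun s =>
    Nat.beq s 36 || (Nat.blt (img f s) 36 && Nat.beq (img f (img f s)) s)) = true := by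
  decide +kernel

theorem away_four : ∀ s < 37, (away 4).contains s = true := by decide +kernel

theorem spW_neg : ∀ f < 4, ∀ t < 4,
    ((spW f t).all fun p => Nat.blt (reflP f p.1) 36 && Nat.blt p.1 72 && Nat.blt p.2 4) = true ∧
      cfgE6.osize (cfgE6.sp f) = (if f < 2 then 2 else 1) := by
  decide +kernel

theorem poleW_zero : ∀ f < 4, poleW f 0 = [] := by decide +kernel

theorem pole_nums : ∀ f < 4, (away f).length + (poles f).length = 37 ∧
    ((poles f).all fun s => Nat.blt s 36) = true ∧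
    (2 ≤ f → (List.range (2 ^ (poles f).length)).all (fun e => Nat.blt (poleT f e) 2) = true) := by
  decide +kernel

theorem away_lt {f : ℕ} (hf : f < 5) {s : ℕ} (hs : s ∈ away f) :
    s < 37 ∧ ∀ t ∈ phi f s, t < 37 := by
  have h := phiChk_true
  simp only [phiChk, Bool.and_eq_true, List.all_eq_true, List.mem_range] at h
  obtain ⟨⟨⟨⟨h1, -⟩, -⟩, -⟩, -⟩ := h f hf
  exact ⟨Nat.le_of_ble_eq_true (h1 s hs).1, fun t ht => Nat.le_of_ble_eq_true ((h1 s hs).2 t ht)⟩

theorem away_len {f : ℕ} (hf : f < 5) :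
    (away f).length = if f < 4 then 37 - (poles f).length else 37 := by
  have h := phiChk_true
  simp only [phiChk, Bool.and_eq_true, List.all_eq_true, List.mem_range] at h
  obtain ⟨⟨⟨⟨-, h2⟩, -⟩, -⟩, -⟩ := h f hf
  rw [Nat.eq_of_beq_eq_true h2]
  by_cases h4 : f < 4
  · rw [if_pos h4, show Nat.blt f 4 = true from Nat.ble_eq_true_of_le h4, cond_true]
  · rw [if_neg h4, show Nat.blt f 4 = false from
      Bool.eq_false_iff.2 fun e => h4 (Nat.le_of_ble_eq_true e), cond_false]

variable {K : Type u} [Field K] {ω : K} {Φ : FieldTwist setupE6 K} (h : IsStd Φ ω)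
include h

/-- The elements giving the maps `0, …, 4`. -/
def IsStd.conjEl (f : ℕ) : ↥Φ.tG := if hf : f < 4 then Φ.nG1 ⟨f, hf⟩ else h.tor⁻¹

/-- The part of the cover kept by the map `f`. -/
def IsStd.dPart (f : ℕ) : Subgroup (Amb Φ) := Subgroup.closure (h.xg '' {r | r ∈ away f})

theorem IsStd.ev_mem_dPart {f : ℕ} {w : List ℕ} (hw : ∀ s ∈ w, s ∈ away f) :
    Pc.ev h.xg w ∈ h.dPart f :=
  Pc.ev_mem h.xg fun s hs => Subgroup.subset_closure ⟨s, hw s hs, rfl⟩

theorem IsStd.dPart_le_cov (f : ℕ) : h.dPart f ≤ h.cov := by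
  rw [IsStd.dPart, Subgroup.closure_le]
  rintro _ ⟨r, -, rfl⟩
  exact h.xg_mem r

theorem IsStd.exists_split {f : ℕ} (hf : f < 4) {v : Amb Φ} (hv : v ∈ h.cov) :
    ∃ e < 2 ^ (poles f).length, ∃ d ∈ h.dPart f, v = Pc.ev h.xg (poleW f e) * d := by
  haveI := h.finite_amb
  let T : Set (Amb Φ) :=
    {v | ∃ e < 2 ^ (poles f).length, ∃ d ∈ h.dPart f, v = Pc.ev h.xg (poleW f e) * d}
  have hgen : ∀ s < 37, ∀ v ∈ T, h.xg s * v ∈ T := by
    rintro s hs _ ⟨e, he, d, hd, rfl⟩
    have hc := splitChk_true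
    simp only [splitChk, Bool.and_eq_true, List.all_eq_true, List.mem_range,
      List.contains_iff_mem] at hc
    obtain ⟨⟨h1, h2⟩, h3⟩ := hc f hf e he s hs
    refine ⟨_, Nat.le_of_ble_eq_true h1, Pc.ev h.xg (split f e s).2 * d,
      mul_mem (h.ev_mem_dPart h2) hd, ?_⟩
    have e2 := h.ev_eq h3
    rw [Pc.ev_cons, Pc.ev_append] at e2
    rw [← mul_assoc, e2, mul_assoc]
  let M : Subgroup (Amb Φ) := MulAction.stabilizer (Amb Φ) T
  have hsmul : ∀ s < 37, h.xg s ∈ M := by
    intro s hs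
    rw [MulAction.mem_stabilizer_iff]
    refine Set.Finite.eq_of_subset_of_encard_le (Set.toFinite _) ?_ (le_of_eq ?_)
    · rintro _ ⟨v, hv, rfl⟩
      exact hgen s hs v hv
    · rw [Set.encard_smul_set]
  have hle : h.cov ≤ M := by
    rw [IsStd.cov, Pc.tailSubgroup, Subgroup.closure_le]
    rintro _ ⟨i, hi, rfl⟩
    exact hsmul i hi.2
  have h1 : (1 : Amb Φ) ∈ T :=
    ⟨0, Nat.two_pow_pos _, 1, one_mem _, by rw [poleW_zero f hf, Pc.ev_nil, mul_one]⟩
  have hmem : v • (1 : Amb Φ) ∈ v • T := Set.smul_mem_smul_set h1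
  rw [MulAction.mem_stabilizer_iff.1 (hle hv), smul_eq_mul, mul_one] at hmem
  exact hmem

theorem IsStd.mem_dPart_four {v : Amb Φ} (hv : v ∈ h.cov) : v ∈ h.dPart 4 := by
  refine (Subgroup.closure_le _).2 ?_ hv
  rintro _ ⟨i, hi, rfl⟩
  exact Subgroup.subset_closure ⟨i, List.contains_iff_mem.1 (away_four i hi.2), rfl⟩

theorem IsStd.le_card_dPart {f : ℕ} (hf : f < 5) :
    2 ^ (away f).length ≤ Nat.card (h.dPart f) := by
  haveI := h.finite_amb
  rw [away_len hf]
  by_cases h4 : f < 4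
  · rw [if_pos h4]
    let F : Fin (2 ^ (poles f).length) × h.dPart f → h.cov := fun p =>
      ⟨Pc.ev h.xg (poleW f p.1) * p.2,
        mul_mem (Pc.ev_mem h.xg fun s _ => h.xg_mem s) (h.dPart_le_cov f p.2.2)⟩
    have hF : Function.Surjective F := by
      rintro ⟨v, hv⟩
      obtain ⟨e, he, d, hd, rfl⟩ := h.exists_split h4 hv
      exact ⟨(⟨e, he⟩, ⟨d, hd⟩), rfl⟩
    have hc := Nat.card_le_card_of_surjective F hF
    rw [h.card_cov, Nat.card_prod, Nat.card_eq_fintype_card, Fintype.card_fin] at hc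
    have hk : (poles f).length ≤ 37 := by have := (pole_nums f h4).1; omega
    rw [show 37 = (poles f).length + (37 - (poles f).length) by omega, pow_add] at hc
    exact Nat.le_of_mul_le_mul_left hc (Nat.two_pow_pos _)
  · rw [if_neg h4]
    obtain rfl : f = 4 := by omega
    rw [← h.card_cov]
    exact Subgroup.card_le_of_le fun v hv => h.mem_dPart_four hv

theorem IsStd.conjEl_gen {f : ℕ} (hf : f < 5) {s : ℕ} (hs : s ∈ away f) :
    (h.conjEl f)⁻¹ * (h.xg s).1 * h.conjEl f = (Pc.ev h.xg (phi f s)).1 := by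
  have hc := phiImgChk_true
  simp only [phiImgChk, List.all_eq_true, List.mem_range, Bool.or_eq_true] at hc
  have h36 := (away_lt hf hs).1
  rw [h.ev_xg_fst]
  by_cases hlt : s < 36
  · have h2 := (hc f hf s hs).resolve_left fun e => by
      have := Nat.eq_of_beq_eq_true e; omega
    rw [h.xg_fst hlt]
    by_cases h4 : f < 4
    · rw [show Nat.blt f 4 = true from Nat.ble_eq_true_of_le h4, cond_true] at h2
      simp only [Bool.and_eq_true, beq_iff_eq] at h2
      have hi := img_invol f h4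
      simp only [List.all_eq_true, Bool.or_eq_true, Bool.and_eq_true] at hi
      obtain ⟨h1, hinv⟩ := (hi s hs).resolve_left fun e => by
        have := Nat.eq_of_beq_eq_true e; omega
      replace hinv := Nat.eq_of_beq_eq_true hinv
      replace h1 : img f s < 36 := Nat.le_of_ble_eq_true h1
      have e := h.nG1_conj ⟨f, h4⟩ (s := img f s) h1
        (show img f (img f s) < 36 by rw [hinv]; exact hlt)
      simp only [hinv] at e
      rw [h2.2, Pc.ev_cons, Pc.ev_nil, mul_one, IsStd.conjEl, dif_pos h4, ← e]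
      group
    · rw [show Nat.blt f 4 = false from
        Bool.eq_false_iff.2 fun e => h4 (Nat.le_of_ble_eq_true e), cond_false] at h2
      rw [eq_of_beq h2, IsStd.conjEl, dif_neg h4, inv_inv, h.tor_conj hlt]
  · obtain rfl : s = 36 := by omega
    have h1 := phiChk_true
    simp only [phiChk, Bool.and_eq_true, List.all_eq_true, List.mem_range] at h1
    obtain ⟨⟨-, h36'⟩, -⟩ := h1 f hf
    rw [show phi f 36 = [36] from eq_of_beq h36', h.xg_fst_ge hlt]
    rw [show List.filter (fun t => Nat.blt t 36) [36] = [] from rfl, Pc.ev_nil]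
    simp

theorem IsStd.phiW_fst {f : ℕ} (hf : f < 5) : ∀ w : List ℕ, (∀ s ∈ w, s ∈ away f) →
    (Pc.ev h.xg (phiW f w)).1 = (h.conjEl f)⁻¹ * (Pc.ev h.xg w).1 * h.conjEl f
  | [], _ => by rw [show phiW f [] = [] from rfl, Pc.ev_nil]; simp
  | s :: w, hw => by
    rw [show phiW f (s :: w) = phi f s ++ phiW f w from rfl, Pc.ev_append, Prod.fst_mul,
      IsStd.phiW_fst hf w fun t ht => hw t (List.mem_cons_of_mem _ ht), Pc.ev_cons, Prod.fst_mul,
      ← h.conjEl_gen hf (hw s List.mem_cons_self)]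
    group

/-- The generators of the graph of a map. -/
def IsStd.yg (f i : ℕ) : Amb Φ × Amb Φ :=
  (h.xg ((away f).getD i 0), Pc.ev h.xg (phi f ((away f).getD i 0)))

theorem IsStd.ev_yg {f : ℕ} (hf : f < 5) : ∀ w : List ℕ, (∀ s ∈ w, s ∈ away f) →
    Pc.ev (h.yg f) (w.map fun s => (away f).idxOf s) = (Pc.ev h.xg w, Pc.ev h.xg (phiW f w))
  | [], _ => rfl
  | s :: w, hw => by
    have e := away_getD_idx f hf
    simp only [List.all_eq_true] at e
    rw [List.map_cons, Pc.ev_cons, IsStd.ev_yg hf w fun t ht => hw t (List.mem_cons_of_mem _ ht),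
      IsStd.yg, Nat.eq_of_beq_eq_true (e s (hw s List.mem_cons_self)),
      show phiW f (s :: w) = phi f s ++ phiW f w from rfl, Pc.ev_append, Pc.ev_cons]
    rfl

/-- The graph of a map on the part it keeps. -/
def IsStd.graph (f : ℕ) : Subgroup (Amb Φ × Amb Φ) :=
  Pc.tailSubgroup (h.yg f) (away f).length 0

theorem IsStd.card_graph_le {f : ℕ} (hf : f < 5) :
    Nat.card (h.graph f) ≤ 2 ^ (away f).length := by
  haveI := h.finite_amb
  refine Pc.card_tailSubgroup_le (h.yg f) (dRules_shaped f hf) (fun r hr => ?_) _ 0 (Nat.zero_add _)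
  simp only [dRules, dRule, Pc.rulesOf, List.mem_flatMap, List.mem_map, List.mem_range] at hr
  obtain ⟨j, hj, i, hi, rfl⟩ := hr
  have hc := phiChk_true
  simp only [phiChk, Bool.and_eq_true, List.all_eq_true, List.mem_range,
    List.contains_iff_mem] at hc
  obtain ⟨hw, hphi⟩ := (hc f hf).2 j hj i (by omega)
  set b := (away f).getD j 0 with hb
  set a := (away f).getD i 0 with ha
  have hidx := away_idx_getD f hf
  simp only [List.all_eq_true, List.mem_range, Bool.and_eq_true] at hidx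
  have hab : a ≤ b := by
    have := away_mono f hf
    simp only [List.all_eq_true, List.mem_range] at this
    exact Nat.le_of_ble_eq_true (this j hj i (by omega))
  have hb37 : b < 37 := Nat.lt_succ_of_le (Nat.le_of_ble_eq_true (hidx j hj).2)
  have hmem : ∀ k < (away f).length, (away f).getD k 0 ∈ away f := fun k hk => by
    rw [List.getD_eq_getElem _ _ hk]; exact List.getElem_mem hk
  have hba : ∀ s ∈ [b, a], s ∈ away f := by
    intro s hs
    simp only [List.mem_cons, List.not_mem_nil, or_false] at hs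
    rcases hs with rfl | rfl
    exacts [hmem j hj, hmem i (by omega)]
  have e1 : [j, i] = [b, a].map fun s => (away f).idxOf s := by
    rw [List.map_cons, List.map_cons, List.map_nil, hb, ha,
      Nat.eq_of_beq_eq_true (hidx j hj).1, Nat.eq_of_beq_eq_true (hidx i (by omega)).1]
  show Pc.ev (h.yg f) [j, i] = Pc.ev (h.yg f) ((crule b a).map fun s => (away f).idxOf s)
  rw [e1, h.ev_yg hf _ hba, h.ev_yg hf _ hw]
  refine Prod.ext ?_ (h.ev_eq hphi)
  rw [Pc.ev_cons, Pc.ev_cons, Pc.ev_nil, mul_one]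
  exact h.xg_rules hab hb37

theorem IsStd.range_graph_fst {f : ℕ} (hf : f < 5) :
    ((MonoidHom.fst (Amb Φ) (Amb Φ)).comp (h.graph f).subtype).range = h.dPart f := by
  rw [MonoidHom.range_comp, Subgroup.range_subtype, IsStd.graph, Pc.tailSubgroup,
    MonoidHom.map_closure, IsStd.dPart]
  refine congrArg Subgroup.closure (Set.ext fun g => ⟨?_, ?_⟩)
  · rintro ⟨_, ⟨i, hi, rfl⟩, rfl⟩
    exact ⟨(away f).getD i 0,
      by rw [Set.mem_setOf_eq, List.getD_eq_getElem _ _ hi.2]; exact List.getElem_mem hi.2, rfl⟩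
  · rintro ⟨r, hr, rfl⟩
    refine ⟨h.yg f ((away f).idxOf r), ⟨_, ⟨Nat.zero_le _, List.idxOf_lt_length_iff.2 hr⟩, rfl⟩, ?_⟩
    have e := away_getD_idx f hf
    simp only [List.all_eq_true] at e
    show h.xg ((away f).getD ((away f).idxOf r) 0) = h.xg r
    rw [Nat.eq_of_beq_eq_true (e r hr)]

theorem IsStd.graph_le {f : ℕ} (hf : f < 5) {g : Amb Φ × Amb Φ} (hg : g ∈ h.graph f) :
    g.2 ∈ h.cov ∧ g.2.1 = (h.conjEl f)⁻¹ * g.1.1 * h.conjEl f := by
  induction hg using Subgroup.closure_induction with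
  | mem x hx =>
    obtain ⟨i, hi, rfl⟩ := hx
    refine ⟨Pc.ev_mem h.xg fun s _ => h.xg_mem s, ?_⟩
    have hm : (away f).getD i 0 ∈ away f := by
      rw [List.getD_eq_getElem _ _ hi.2]; exact List.getElem_mem hi.2
    exact (h.conjEl_gen hf hm).symm
  | one => exact ⟨one_mem _, by simp⟩
  | mul x y _ _ hx hy =>
    refine ⟨mul_mem hx.1 hy.1, ?_⟩
    rw [Prod.snd_mul, Prod.fst_mul, hx.2, hy.2, Prod.fst_mul, Prod.fst_mul]
    group
  | inv x _ hx =>
    refine ⟨inv_mem hx.1, ?_⟩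
    rw [Prod.snd_inv, Prod.fst_inv, hx.2, Prod.fst_inv, Prod.fst_inv]
    group

theorem IsStd.conjEl_dPart {f : ℕ} (hf : f < 5) {d : Amb Φ} (hd : d ∈ h.dPart f) :
    (h.conjEl f)⁻¹ * d.1 * h.conjEl f ∈ h.usub := by
  obtain ⟨g, hg⟩ := (h.range_graph_fst hf).ge hd
  obtain ⟨h1, h2⟩ := h.graph_le hf g.2
  rw [← h.range_proj, ← show (g : Amb Φ × Amb Φ).1 = d from hg, ← h2]
  exact ⟨⟨_, h1⟩, rfl⟩

theorem IsStd.pole_not_mem {f e : ℕ} (hf : f < 4) (he : e < 2 ^ (poles f).length) (he0 : e ≠ 0) :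
    (h.conjEl f)⁻¹ * (Pc.ev h.xg (poleW f e)).1 * h.conjEl f ∉ h.usub := by
  intro hmem
  haveI := h.finite
  have hc := poleChk_true
  simp only [poleChk, Bool.and_eq_true, List.all_eq_true, List.mem_range, Bool.or_eq_true] at hc
  obtain ⟨hw36, hrest⟩ := hc f hf e he
  obtain ⟨⟨ht0, ht4⟩, hcol⟩ := hrest.resolve_left fun e' => he0 (Nat.eq_of_beq_eq_true e')
  replace ht0 : 0 < poleT f e := Nat.le_of_ble_eq_true ht0
  replace ht4 : poleT f e < 4 := Nat.le_of_ble_eq_true ht4
  set t := poleT f e with ht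
  obtain ⟨hneg, hos⟩ := spW_neg f hf t ht4
  simp only [List.all_eq_true, Bool.and_eq_true] at hneg
  have hp : ((Pc.ev h.xg (poleW f e)).1 : GL chevE6.Idx K) = xw ω (spW f t) := by
    rw [h.ev_xg_fst, (List.filter_eq_self (p := fun s => Nat.blt s 36)).2 hw36, h.coe_ev,
      xw_eq h.omega hcol]
  rw [IsStd.conjEl, dif_pos hf] at hmem
  rw [h.usub_eq] at hmem
  have hval : (Φ.nO ⟨f, hf⟩)⁻¹ * xw ω (spW f t) * Φ.nO ⟨f, hf⟩ =
      xw ω ((spW f t).map fun p => (reflP f p.1, p.2)) := by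
    generalize hL : spW f t = L at hneg
    clear hL hp hcol
    induction L with
    | nil => simp [xw]
    | cons p L ih =>
      obtain ⟨⟨hp1, hp2⟩, hp3⟩ := hneg p List.mem_cons_self
      have hn : chevE6.nroots = 72 := by decide +kernel
      have e1 : xp ω p = X goodC.good ⟨p.1, hn ▸ Nat.le_of_ble_eq_true hp2⟩ (cV ω p.2) :=
        dif_pos (hn ▸ Nat.le_of_ble_eq_true hp2)
      set r : Root chevE6 := ⟨p.1, hn ▸ Nat.le_of_ble_eq_true hp2⟩ with hr
      have ev : (setupE6.wR ⟨f, hf⟩ r : ℕ) = reflP f p.1 := setupE6.wR_val ⟨f, hf⟩ r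
      have e2 : xp ω (reflP f p.1, p.2) =
          X goodC.good (setupE6.wR ⟨f, hf⟩ r) (cV ω p.2) := by
        refine (dif_pos (ev ▸ (setupE6.wR ⟨f, hf⟩ r).2)).trans ?_
        congr 1
        exact Fin.ext ev.symm
      have key := nO_conj_X (Φ := Φ) h.omega ⟨f, hf⟩ (setupE6.wR ⟨f, hf⟩ r) (cV ω p.2)
      rw [show setupE6.wR ⟨f, hf⟩ (setupE6.wR ⟨f, hf⟩ r) = r from
        Equiv.Perm.ext_iff.1 (setupE6.wR_wR ⟨f, hf⟩) r] at key
      rw [List.map_cons, xw_cons, xw_cons, ← ih fun q hq => hneg q (List.mem_cons_of_mem _ hq),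
        e2, e1, ← key]
      group
  have hnegU : xw ω ((spW f t).map fun p => (reflP f p.1, p.2)) ∈ chevE6.negUnipotent K := by
    rw [negUnipotent_eq_rootGen setupE6.good.good]
    refine Subgroup.list_prod_mem _ fun x hx => ?_
    simp only [List.map_map, List.mem_map, Function.comp_apply] at hx
    obtain ⟨p, hpL, rfl⟩ := hx
    have hlt : reflP f p.1 < 36 := Nat.le_of_ble_eq_true (hneg p hpL).1.1
    rw [xp]
    split
    · refine X_mem_rootGen _ ?_ _
      show (reflP f p.1 : ℕ) < half chevE6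
      rw [show half chevE6 = 36 by decide +kernel]
      exact hlt
    · exact one_mem _
  have h1 : xw ω ((spW f t).map fun p => (reflP f p.1, p.2)) = 1 := by
    rw [← Subgroup.mem_bot, ← borel_inf_neg (F := K) setupE6.good]
    refine Subgroup.mem_inf.2 ⟨?_, hnegU⟩
    have h2 : (Φ.nO ⟨f, hf⟩)⁻¹ * xw ω (spW f t) * Φ.nO ⟨f, hf⟩ ∈ Φ.B1 := by
      refine Subgroup.mem_sup_left ?_
      rw [← hp]; exact hmem
    rw [← hval]
    exact Φ.B1_le_borel h2
  rw [← hval] at h1
  have h2 : xw ω (spW f t) = 1 := by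
    calc xw ω (spW f t) = Φ.nO ⟨f, hf⟩ *
          ((Φ.nO ⟨f, hf⟩)⁻¹ * xw ω (spW f t) * Φ.nO ⟨f, hf⟩) * (Φ.nO ⟨f, hf⟩)⁻¹ := by group
      _ = 1 := by rw [h1]; group
  have hoX : Φ.oX (setupE6.spR ⟨f, hf⟩) (cV ω t) = xw ω (spW f t) := by
    have ho : setupE6.osize (setupE6.spR ⟨f, hf⟩) = (if f < 2 then 2 else 1) := hos
    have hn : chevE6.nroots = 72 := by decide +kernel
    have e0 : ∀ (r : Root chevE6) (n c : ℕ), (r : ℕ) = n →
        xp ω (n, c) = X goodC.good r (cV ω c) := by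
      intro r n c e
      subst e
      exact dif_pos r.2
    by_cases h2' : f < 2
    · rw [if_pos h2'] at ho
      rw [oX_two h.omega ho, spW, show Nat.blt f 2 = true from Nat.ble_eq_true_of_le h2',
        cond_true, xw_cons, xw_cons, h.f_cV ht4, e0 (setupE6.spR ⟨f, hf⟩) (cfgE6.sp f) _ rfl,
        e0 (setupE6.σR (setupE6.spR ⟨f, hf⟩)) (cfgE6.S.σf (cfgE6.sp f)) _ rfl]
      simp [xw]
    · rw [if_neg h2'] at ho
      rw [oX_one ho, spW, show Nat.blt f 2 = false from
          Bool.eq_false_iff.2 fun e => h2' (Nat.le_of_ble_eq_true e), cond_false, xw_cons,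
        e0 (setupE6.spR ⟨f, hf⟩) (cfgE6.sp f) _ rfl]
      simp [xw]
  have h3 : cV ω t = 0 := by
    refine Φ.oX_injective (setupE6.spR_pos ⟨f, hf⟩) ?_
    rw [hoX, h2, Φ.oX_zero]
  interval_cases t
  · exact one_ne_zero (α := K) h3
  · exact h.omega.ne_zero h3
  · exact h.omega.ne_one ((eq_neg_of_add_eq_zero_left h3).trans (h.omega.neg_eq 1))

theorem IsStd.dom_le_dPart {f : ℕ} (hf : f < 5) {v : h.cov}
    (hv : v ∈ Stable.dom h.proj (h.conjEl f)) : (v : Amb Φ) ∈ h.dPart f := by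
  by_cases h4 : f < 4
  · obtain ⟨e, he, d, hd, hed⟩ := h.exists_split h4 v.2
    by_cases he0 : e = 0
    · rw [hed, he0, poleW_zero f h4, Pc.ev_nil, one_mul]; exact hd
    exfalso
    rw [Stable.mem_dom, h.range_proj] at hv
    refine h.pole_not_mem h4 he he0 ?_
    have h1 := h.conjEl_dPart hf hd
    rw [show h.proj v = (v : Amb Φ).1 from rfl, hed, Prod.fst_mul] at hv
    rw [show (h.conjEl f)⁻¹ * (Pc.ev h.xg (poleW f e)).1 * h.conjEl f =
      ((h.conjEl f)⁻¹ * ((Pc.ev h.xg (poleW f e)).1 * d.1) * h.conjEl f) *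
        ((h.conjEl f)⁻¹ * d.1 * h.conjEl f)⁻¹ by group]
    exact mul_mem hv (inv_mem h1)
  · obtain rfl : f = 4 := by omega
    exact h.mem_dPart_four v.2

theorem IsStd.stable_conjEl {f : ℕ} (hf : f < 5) :
    Stable.Stable h.proj h.zc (h.conjEl f) := by
  haveI := h.finite_amb
  let π : h.graph f →* h.dPart f :=
    ((MonoidHom.fst (Amb Φ) (Amb Φ)).comp (h.graph f).subtype).codRestrict (h.dPart f)
      fun g => (h.range_graph_fst hf).le ⟨g, rfl⟩
  have hsur : Function.Surjective π := by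
    rintro ⟨d, hd⟩
    obtain ⟨g, hg⟩ := (h.range_graph_fst hf).ge hd
    exact ⟨g, Subtype.ext hg⟩
  have hbij : Function.Bijective π :=
    hsur.bijective_of_nat_card_le ((h.card_graph_le hf).trans (h.le_card_dPart hf))
  let E := MulEquiv.ofBijective π hbij
  let ι : Stable.dom h.proj (h.conjEl f) →* h.dPart f :=
    (h.cov.subtype.comp (Stable.dom h.proj (h.conjEl f)).subtype).codRestrict (h.dPart f)
      fun v => h.dom_le_dPart hf v.2
  let ψ : Stable.dom h.proj (h.conjEl f) →* h.cov :=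
    ((MonoidHom.snd (Amb Φ) (Amb Φ)).comp
      ((h.graph f).subtype.comp (E.symm.toMonoidHom.comp ι))).codRestrict
      h.cov fun v => (h.graph_le hf (E.symm (ι v)).2).1
  refine ⟨ψ, fun v => ?_, fun v hv => ?_⟩
  · show ((E.symm (ι v)).1.2).1 = (h.conjEl f)⁻¹ * ((v : h.cov) : Amb Φ).1 * h.conjEl f
    rw [(h.graph_le hf (E.symm (ι v)).2).2]
    have e : (E.symm (ι v)).1.1 = ((v : h.cov) : Amb Φ) :=
      congrArg Subtype.val (E.apply_symm_apply (ι v))
    rw [e]
  · have hc := phiChk_true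
    simp only [phiChk, Bool.and_eq_true, List.all_eq_true, List.mem_range,
      List.contains_iff_mem] at hc
    obtain ⟨⟨⟨-, h36⟩, hphi⟩, -⟩ := hc f hf
    have hmem : (h.xg 36, h.xg 36) ∈ h.graph f := by
      have e := away_getD_idx f hf
      simp only [List.all_eq_true] at e
      have h2 : h.yg f ((away f).idxOf 36) = (h.xg 36, h.xg 36) := by
        rw [IsStd.yg, Nat.eq_of_beq_eq_true (e 36 h36), eq_of_beq hphi, Pc.ev_cons, Pc.ev_nil,
          mul_one]
      rw [← h2]
      exact Pc.gen_mem_tailSubgroup _ (Nat.zero_le _) (List.idxOf_lt_length_iff.2 h36)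
    have e : E.symm (ι v) = ⟨(h.xg 36, h.xg 36), hmem⟩ := by
      refine E.symm_apply_eq.2 (Subtype.ext ?_)
      show ((v : h.cov) : Amb Φ) = h.xg 36
      rw [hv]; rfl
    refine Subtype.ext ?_
    show ((E.symm (ι v)).1).2 = h.xg 36
    rw [e]

end CfsgLib.TwistE6Mult
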