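import Mathlib.Data.Nat.Notation

/-!
# The unipotent generators of `²E₆(2)` and their rules (generated)
-/

set_option autoImplicit false
set_option maxRecDepth 100000

namespace CfsgLib.TwistE6Mult

/-- Root number and code of the factors of a generator. -/
def genRows : List (List (ℕ × ℕ)) :=
  [[(36, 2), (56, 3)],
    [(36, 3), (56, 2)],
    [(37, 2), (42, 3)],
    [(37, 3), (42, 2)],
    [(39, 1)],
    [(46, 1)],
    [(38, 2), (57, 3)],
    [(38, 3), (57, 2)],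
    [(40, 2), (43, 3)],
    [(40, 3), (43, 2)],
    [(47, 1)],
    [(41, 2), (58, 3)],
    [(41, 3), (58, 2)],
    [(44, 1)],
    [(48, 2), (50, 3)],
    [(48, 3), (50, 2)],
    [(45, 2), (59, 3)],
    [(45, 3), (59, 2)],
    [(49, 2), (61, 3)],
    [(49, 3), (61, 2)],
    [(51, 1)],
    [(52, 2), (62, 3)],
    [(52, 3), (62, 2)],
    [(53, 1)],
    [(60, 1)],
    [(54, 2), (64, 3)],
    [(54, 3), (64, 2)],
    [(63, 1)],
    [(55, 2), (67, 3)],
    [(55, 3), (67, 2)],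
    [(65, 1)],
    [(66, 2), (68, 3)],
    [(66, 3), (68, 2)],
    [(69, 1)],
    [(70, 1)],
    [(71, 1)]]

/-- The right hand sides of the rules. -/
def rows : List (List (List ℕ)) :=
  [[[]],
    [[0, 1], []],
    [[0, 2, 7], [1, 2, 6, 7], []],
    [[0, 3, 6, 7], [1, 3, 6], [2, 3], []],
    [[0, 4], [1, 4], [2, 4, 8, 13], [3, 4, 9, 13], []],
    [[0, 5], [1, 5], [2, 5], [3, 5], [4, 5, 10], []],
    [[0, 6], [1, 6], [2, 6], [3, 6], [4, 6, 11, 24], [5, 6], []],
    [[0, 7], [1, 7], [2, 7], [3, 7], [4, 7, 12, 24], [5, 7], [6, 7], []],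
    [[0, 8, 12], [1, 8, 11, 12], [2, 8], [3, 8, 13], [4, 8], [5, 8, 14, 23], [6, 8, 16, 17], [7, 8, 16], []],
    [[0, 9, 11, 12], [1, 9, 11], [2, 9, 13], [3, 9], [4, 9], [5, 9, 15, 23], [6, 9, 17], [7, 9, 16, 17], [8, 9], []],
    [[0, 10], [1, 10], [2, 10, 14, 20], [3, 10, 15, 20], [4, 10], [5, 10], [6, 10, 18, 27], [7, 10, 19, 27], [8, 10], [9, 10], []],
    [[0, 11], [1, 11], [2, 11, 16, 17], [3, 11, 17], [4, 11], [5, 11, 18, 30], [6, 11], [7, 11, 24], [8, 11], [9, 11], [10, 11], []],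
    [[0, 12], [1, 12], [2, 12, 16], [3, 12, 16, 17], [4, 12], [5, 12, 19, 30], [6, 12, 24], [7, 12], [8, 12], [9, 12], [10, 12], [11, 12], []],
    [[0, 13, 16, 24], [1, 13, 17, 24], [2, 13], [3, 13], [4, 13], [5, 13, 20], [6, 13], [7, 13], [8, 13], [9, 13], [10, 13, 23], [11, 13], [12, 13], []],
    [[0, 14, 19], [1, 14, 18, 19], [2, 14], [3, 14, 20], [4, 14], [5, 14], [6, 14, 21, 22], [7, 14, 21], [8, 14], [9, 14, 23], [10, 14], [11, 14, 25, 26], [12, 14, 25], [13, 14], []],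
    [[0, 15, 18, 19], [1, 15, 18], [2, 15, 20], [3, 15], [4, 15], [5, 15], [6, 15, 22], [7, 15, 21, 22], [8, 15, 23], [9, 15], [10, 15], [11, 15, 26], [12, 15, 25, 26], [13, 15], [14, 15], []],
    [[0, 16], [1, 16, 24], [2, 16], [3, 16], [4, 16], [5, 16, 21, 33], [6, 16], [7, 16], [8, 16], [9, 16], [10, 16, 25, 34], [11, 16], [12, 16], [13, 16], [14, 16, 29], [15, 16, 28, 29], []],
    [[0, 17, 24], [1, 17], [2, 17], [3, 17], [4, 17], [5, 17, 22, 33], [6, 17], [7, 17], [8, 17], [9, 17], [10, 17, 26, 34], [11, 17], [12, 17], [13, 17], [14, 17, 28, 29], [15, 17, 28], [16, 17], []],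
    [[0, 18], [1, 18], [2, 18, 21, 22], [3, 18, 22], [4, 18], [5, 18], [6, 18], [7, 18, 27], [8, 18, 25, 26], [9, 18, 26], [10, 18], [11, 18], [12, 18, 30], [13, 18, 28, 35], [14, 18], [15, 18], [16, 18, 31, 32], [17, 18, 32], []],
    [[0, 19], [1, 19], [2, 19, 21], [3, 19, 21, 22], [4, 19], [5, 19], [6, 19, 27], [7, 19], [8, 19, 25], [9, 19, 25, 26], [10, 19], [11, 19, 30], [12, 19], [13, 19, 29, 35], [14, 19], [15, 19], [16, 19, 31], [17, 19, 31, 32], [18, 19], []],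
    [[0, 20, 21, 27], [1, 20, 22, 27], [2, 20], [3, 20], [4, 20, 23], [5, 20], [6, 20], [7, 20], [8, 20], [9, 20], [10, 20], [11, 20, 28, 34], [12, 20, 29, 34], [13, 20], [14, 20], [15, 20], [16, 20], [17, 20], [18, 20], [19, 20], []],
    [[0, 21], [1, 21, 27], [2, 21], [3, 21], [4, 21, 25, 35], [5, 21], [6, 21], [7, 21], [8, 21, 29], [9, 21, 28, 29], [10, 21], [11, 21, 31, 32], [12, 21, 31], [13, 21], [14, 21], [15, 21], [16, 21], [17, 21, 33], [18, 21], [19, 21], [20, 21], []],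
    [[0, 22, 27], [1, 22], [2, 22], [3, 22], [4, 22, 26, 35], [5, 22], [6, 22], [7, 22], [8, 22, 28, 29], [9, 22, 28], [10, 22], [11, 22, 32], [12, 22, 31, 32], [13, 22], [14, 22], [15, 22], [16, 22, 33], [17, 22], [18, 22], [19, 22], [20, 22], [21, 22], []],
    [[0, 23, 25, 30], [1, 23, 26, 30], [2, 23], [3, 23], [4, 23], [5, 23], [6, 23, 28, 33], [7, 23, 29, 33], [8, 23], [9, 23], [10, 23], [11, 23], [12, 23], [13, 23], [14, 23], [15, 23], [16, 23], [17, 23], [18, 23], [19, 23], [20, 23], [21, 23], [22, 23], []],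
    [[0, 24], [1, 24], [2, 24], [3, 24], [4, 24], [5, 24, 27], [6, 24], [7, 24], [8, 24], [9, 24], [10, 24, 30], [11, 24], [12, 24], [13, 24], [14, 24, 31, 35], [15, 24, 32, 35], [16, 24], [17, 24], [18, 24], [19, 24], [20, 24, 33], [21, 24], [22, 24], [23, 24, 34], []],
    [[0, 25], [1, 25, 30], [2, 25, 29], [3, 25, 28, 29], [4, 25], [5, 25], [6, 25, 31, 32], [7, 25, 31], [8, 25], [9, 25], [10, 25], [11, 25], [12, 25], [13, 25], [14, 25], [15, 25], [16, 25], [17, 25, 34], [18, 25], [19, 25], [20, 25], [21, 25], [22, 25, 35], [23, 25], [24, 25], []],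
    [[0, 26, 30], [1, 26], [2, 26, 28, 29], [3, 26, 28], [4, 26], [5, 26], [6, 26, 32], [7, 26, 31, 32], [8, 26], [9, 26], [10, 26], [11, 26], [12, 26], [13, 26], [14, 26], [15, 26], [16, 26, 34], [17, 26], [18, 26], [19, 26], [20, 26], [21, 26, 35], [22, 26], [23, 26], [24, 26], [25, 26], []],
    [[0, 27], [1, 27], [2, 27], [3, 27], [4, 27, 30], [5, 27], [6, 27], [7, 27], [8, 27, 31, 34], [9, 27, 32, 34], [10, 27], [11, 27], [12, 27], [13, 27, 33], [14, 27], [15, 27], [16, 27], [17, 27], [18, 27], [19, 27], [20, 27], [21, 27], [22, 27], [23, 27, 35], [24, 27], [25, 27], [26, 27], []],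
    [[0, 28, 31, 32], [1, 28, 32], [2, 28], [3, 28], [4, 28], [5, 28], [6, 28], [7, 28, 33], [8, 28], [9, 28], [10, 28], [11, 28], [12, 28, 34], [13, 28], [14, 28], [15, 28], [16, 28], [17, 28], [18, 28], [19, 28, 35], [20, 28], [21, 28], [22, 28], [23, 28], [24, 28], [25, 28], [26, 28], [27, 28], []],
    [[0, 29, 31], [1, 29, 31, 32], [2, 29], [3, 29], [4, 29], [5, 29], [6, 29, 33], [7, 29], [8, 29], [9, 29], [10, 29], [11, 29, 34], [12, 29], [13, 29], [14, 29], [15, 29], [16, 29], [17, 29], [18, 29, 35], [19, 29], [20, 29], [21, 29], [22, 29], [23, 29], [24, 29], [25, 29], [26, 29], [27, 29], [28, 29], []],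
    [[0, 30], [1, 30], [2, 30, 31, 33], [3, 30, 32, 33], [4, 30], [5, 30], [6, 30], [7, 30], [8, 30], [9, 30], [10, 30], [11, 30], [12, 30], [13, 30, 34], [14, 30], [15, 30], [16, 30], [17, 30], [18, 30], [19, 30], [20, 30, 35], [21, 30], [22, 30], [23, 30], [24, 30], [25, 30], [26, 30], [27, 30], [28, 30], [29, 30], []],
    [[0, 31], [1, 31], [2, 31], [3, 31, 33], [4, 31], [5, 31], [6, 31], [7, 31], [8, 31], [9, 31, 34], [10, 31], [11, 31], [12, 31], [13, 31], [14, 31], [15, 31, 35], [16, 31], [17, 31], [18, 31], [19, 31], [20, 31], [21, 31], [22, 31], [23, 31], [24, 31], [25, 31], [26, 31], [27, 31], [28, 31], [29, 31], [30, 31], []],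
    [[0, 32], [1, 32], [2, 32, 33], [3, 32], [4, 32], [5, 32], [6, 32], [7, 32], [8, 32, 34], [9, 32], [10, 32], [11, 32], [12, 32], [13, 32], [14, 32, 35], [15, 32], [16, 32], [17, 32], [18, 32], [19, 32], [20, 32], [21, 32], [22, 32], [23, 32], [24, 32], [25, 32], [26, 32], [27, 32], [28, 32], [29, 32], [30, 32], [31, 32], []],
    [[0, 33], [1, 33], [2, 33], [3, 33], [4, 33, 34], [5, 33], [6, 33], [7, 33], [8, 33], [9, 33], [10, 33, 35], [11, 33], [12, 33], [13, 33], [14, 33], [15, 33], [16, 33], [17, 33], [18, 33], [19, 33], [20, 33], [21, 33], [22, 33], [23, 33], [24, 33], [25, 33], [26, 33], [27, 33], [28, 33], [29, 33], [30, 33], [31, 33], [32, 33], []],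
    [[0, 34], [1, 34], [2, 34], [3, 34], [4, 34], [5, 34, 35], [6, 34], [7, 34], [8, 34], [9, 34], [10, 34], [11, 34], [12, 34], [13, 34], [14, 34], [15, 34], [16, 34], [17, 34], [18, 34], [19, 34], [20, 34], [21, 34], [22, 34], [23, 34], [24, 34], [25, 34], [26, 34], [27, 34], [28, 34], [29, 34], [30, 34], [31, 34], [32, 34], [33, 34], []],
    [[0, 35], [1, 35], [2, 35], [3, 35], [4, 35], [5, 35], [6, 35], [7, 35], [8, 35], [9, 35], [10, 35], [11, 35], [12, 35], [13, 35], [14, 35], [15, 35], [16, 35], [17, 35], [18, 35], [19, 35], [20, 35], [21, 35], [22, 35], [23, 35], [24, 35], [25, 35], [26, 35], [27, 35], [28, 35], [29, 35], [30, 35], [31, 35], [32, 35], [33, 35], [34, 35], []]]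

/-- Images of the generators under the reflections and two torus elements (`36`: none). -/
def fusRows : List (List ℕ) :=
  [[36, 36, 6, 7, 4, 5, 2, 3, 11, 12, 10, 8, 9, 24, 18, 19, 17, 16, 14, 15, 27, 22, 21, 30, 13, 26, 25, 20, 31, 32, 23, 28, 29, 33, 34, 35],
    [6, 7, 36, 36, 13, 5, 0, 1, 9, 8, 20, 16, 17, 4, 15, 14, 11, 12, 21, 22, 10, 18, 19, 23, 24, 28, 29, 27, 25, 26, 33, 32, 31, 30, 34, 35],
    [0, 1, 8, 9, 36, 10, 11, 12, 2, 3, 5, 6, 7, 13, 14, 15, 16, 17, 18, 19, 23, 25, 26, 20, 24, 21, 22, 30, 28, 29, 27, 31, 32, 34, 33, 35],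
    [0, 1, 2, 3, 10, 36, 6, 7, 14, 15, 4, 18, 19, 20, 8, 9, 21, 22, 11, 12, 13, 16, 17, 23, 27, 25, 26, 24, 28, 29, 30, 31, 32, 33, 35, 34],
    [1, 36, 3, 36, 4, 5, 36, 6, 9, 36, 10, 36, 11, 13, 15, 36, 17, 36, 36, 18, 20, 22, 36, 23, 24, 26, 36, 27, 36, 28, 30, 32, 36, 33, 34, 35],
    [36, 0, 36, 2, 4, 5, 7, 36, 36, 8, 10, 12, 36, 13, 36, 14, 36, 16, 19, 36, 20, 36, 21, 23, 24, 36, 25, 27, 29, 36, 30, 36, 31, 33, 34, 35]]

/-- Conjugates of the generators by a torus element. -/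
def torRows : List (List ℕ) :=
  [[1],
    [0, 1],
    [3],
    [2, 3],
    [4],
    [5],
    [6, 7],
    [6],
    [9],
    [8, 9],
    [10],
    [11, 12],
    [11],
    [13],
    [15],
    [14, 15],
    [17],
    [16, 17],
    [18, 19],
    [18],
    [20],
    [22],
    [21, 22],
    [23],
    [24],
    [26],
    [25, 26],
    [27],
    [28, 29],
    [28],
    [30],
    [32],
    [31, 32],
    [33],
    [34],
    [35]]

end CfsgLib.TwistE6Mult
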