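import Cfsg.Agent.TwistE6Mult.Collect
import Cfsg.Agent.TwistE6Mult.Data

/-!
# The tables of the unipotent generators of `²E₆(2)`: checks
-/

set_option autoImplicit false
set_option maxRecDepth 20000

namespace CfsgLib.TwistE6Mult

open Cfsg.Lie CfsgLib.Chevalley CfsgLib.GraphTwist

/-- The factors of a generator. -/
def genW (i : ℕ) : List (ℕ × ℕ) := genRows.getD i []

/-- The factors of a word in the generators. -/
def gw (w : List ℕ) : List (ℕ × ℕ) := w.flatMap genW

/-- The right hand side of the rule for `(b, a)`. -/
def rule (b a : ℕ) : List ℕ := (rows.getD b []).getD a []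

/-- Multiplication of a code by a power of `ω`. -/
def scal (e t : ℕ) : ℕ := mulF (([1, 2, 3] : List ℕ).getD e 0) t

/-- The action of a root permutation and exponents on factors. -/
def actW (π e : ℕ → ℕ) (w : List (ℕ × ℕ)) : List (ℕ × ℕ) :=
  w.map fun p => (π p.1, scal (e p.1) p.2)

/-- The exponent of `ω` of the torus element at a root. -/
def torExp (r : ℕ) : ℕ :=
  ((chevE6.cartan 0 r + 2 * chevE6.cartan 5 r) % 3).toNat

/-- Three times the difference of the coefficients of the end nodes of a root, from its weight. -/
def delWt (w : ℕ → ℤ) : ℤ := 2 * w 0 + w 2 - w 4 - 2 * w 5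

/-- The exponent of `ω` of the diagonal automorphism at a root. -/
def delExp (r : ℕ) : ℕ := ((delWt (fun k => chevE6.cartan k r) / 3) % 3).toNat

/-- The root permutation of a reflection. -/
def reflP (f r : ℕ) : ℕ := cfgE6.wO f r

/-- The image of a generator under a fusion. -/
def img (f s : ℕ) : ℕ := (fusRows.getD f []).getD s 36

/-- The rules hold for the root elements. -/
def ruleChk : Bool :=
  (List.range 36).all fun b => (List.range (b + 1)).all fun a =>
    collectW (gw [b, a]) == collectW (gw (rule b a))

/-- The reflections move the generators as tabled. -/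
def reflChk : Bool :=
  (List.range 4).all fun f => (List.range 36).all fun s =>
    Nat.ble 36 (img f s) ||
      collectW (actW (reflP f) (fun _ => 0) (genW s)) == collectW (genW (img f s))

/-- The torus element and its square move the generators as tabled. -/
def torChk : Bool :=
  ((List.range 36).all fun s =>
      (torRows.getD s []).all (fun t => Nat.blt t 36) &&
      collectW (actW id torExp (genW s)) == collectW (gw (torRows.getD s []))) &&
    (List.range 36).all fun s =>
      (Nat.ble 36 (img 4 s) || collectW (actW id torExp (genW s)) == collectW (genW (img 4 s))) &&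
        (Nat.ble 36 (img 5 s) ||
          collectW (actW id torExp (actW id torExp (genW s))) == collectW (genW (img 5 s)))

theorem ruleChk_true : ruleChk = true := by decide +kernel

theorem reflChk_true : reflChk = true := by decide +kernel

theorem torChk_true : torChk = true := by decide +kernel

/-- The square of a code. -/
def sqF (t : ℕ) : ℕ := ([0, 1, 3, 2] : List ℕ).getD t 0

/-- The factors of the element of an orbit. -/
def orbW (j : Fin setupE6.norb) (t : ℕ) : List (ℕ × ℕ) :=
  if setupE6.osize (setupE6.rep j) = 1 then [((setupE6.rep j : ℕ), 1)]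
  else [((setupE6.rep j : ℕ), t), ((setupE6.σR (setupE6.rep j) : ℕ), sqF t)]

theorem norb_eq : setupE6.norb = 24 := by decide +kernel

theorem gen_orbW : ∀ i : Fin 36, ∃ j : Fin setupE6.norb, ∃ t : Fin 4, genW i = orbW j t := by
  decide +kernel

theorem orbW_gen : ∀ j : Fin setupE6.norb, ∀ t : Fin 4, (t : ℕ) = 2 ∨ (t : ℕ) = 3 →
    ∃ i : Fin 36, genW i = orbW j t := by
  decide +kernel

theorem genW_lt : ∀ i : Fin 36, (genW i).all (fun p => Nat.blt p.1 72 && Nat.blt p.2 4) = true := by
  decide +kernel

theorem genRows_len : genRows.length = 36 := by decide +kernel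

theorem osize_le : ∀ j : Fin setupE6.norb,
    setupE6.osize (setupE6.rep j) = 1 ∨ setupE6.osize (setupE6.rep j) = 2 := by
  decide +kernel

theorem sgn_unit : ∀ r : Root chevE6,
    setupE6.cfg.S.sgn (r : ℕ) = 1 ∨ setupE6.cfg.S.sgn (r : ℕ) = -1 := by
  decide +kernel

end CfsgLib.TwistE6Mult
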