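import Cfsg.Agent.TwistE6Mult.Gens
import Cfsg.Agent.SchurBN.E6Multiplier
import Cfsg.Agent.Schur.PcClosure

/-!
# The unipotent subgroup of `²E₆(2)` by generators
-/

set_option autoImplicit false
set_option maxRecDepth 20000
set_option linter.style.haveILetI false

namespace CfsgLib.TwistE6Mult

open Cfsg.Lie CfsgLib.Chevalley CfsgLib.GraphTwist CfsgLib.Schur
open scoped MatrixGroups

universe u

variable {K : Type u} [Field K] {ω : K}

theorem IsOmega.ne_zero (hω : IsOmega ω) : ω ≠ 0 := fun h => by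
  have := hω.sq
  rw [h, mul_zero, zero_add] at this
  exact zero_ne_one this

theorem IsOmega.ne_one (hω : IsOmega ω) : ω ≠ 1 := fun h => by
  have := hω.sq
  rw [h, one_mul, hω.two] at this
  exact one_ne_zero this

theorem IsOmega.cube (hω : IsOmega ω) : ω ^ 3 = 1 := by
  rw [show ω ^ 3 = ω * (ω * ω) from by ring, hω.sq, mul_add, hω.sq, mul_one,
    add_right_comm, hω.add_self, zero_add]

theorem IsOmega.cV_surjective [Fintype K] (hω : IsOmega ω) (hK : Fintype.card K = 4) (x : K) :
    ∃ t, t < 4 ∧ cV ω t = x := by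
  have h0 := hω.ne_zero
  have h1 := hω.ne_one
  have h2 : ω + 1 ≠ 0 := fun h => h1 ((eq_neg_of_add_eq_zero_left h).trans (hω.neg_eq 1))
  have h3 : ω + 1 ≠ 1 := fun h => h0 (by simpa using h)
  have h4 : ω + 1 ≠ ω := fun h => one_ne_zero (α := K) (by simpa using h)
  have hinj : Function.Injective fun t : Fin 4 => cV ω t := by
    intro a b h
    fin_cases a <;> fin_cases b <;> first
      | rfl
      | (exfalso
         simp only [cV] at h
         first
           | exact zero_ne_one h | exact one_ne_zero h | exact h0 h | exact h0 h.symm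
           | exact h1 h | exact h1 h.symm | exact h2 h | exact h2 h.symm
           | exact h3 h | exact h3 h.symm | exact h4 h | exact h4 h.symm)
  obtain ⟨t, ht⟩ := ((Fintype.bijective_iff_injective_and_card _).2
    ⟨hinj, (Fintype.card_fin 4).trans hK.symm⟩).2 x
  exact ⟨t, t.2, ht⟩

theorem exists_isOmega [Fintype K] (hK : Fintype.card K = 4) : ∃ ω : K, IsOmega ω := by
  haveI : CharP K 2 := charP_of_card_eq_prime_pow (p := 2) (f := 2) (by rw [hK]; norm_num)
  have h11 : (1 : K) + 1 = 0 := CharTwo.add_self_eq_zero 1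
  obtain ⟨u, hu⟩ : ∃ u : K, u ≠ 0 ∧ u ≠ 1 := by
    by_contra h
    push Not at h
    classical
    have hs : (Finset.univ : Finset K) ⊆ {0, 1} := fun u _ => by
      by_cases h0 : u = 0
      · simp [h0]
      · simp [h u h0]
    have := Finset.card_le_card hs
    rw [Finset.card_univ, hK] at this
    have h2 := Finset.card_le_two (a := (0 : K)) (b := 1)
    omega
  refine ⟨u, h11, ?_⟩
  have h4 : u ^ 4 = u := by simpa [hK] using FiniteField.pow_card u
  have : (u * u - (u + 1)) * (u * (u - 1)) = 0 := by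
    have h2 : (2 : K) = 0 := by rw [← one_add_one_eq_two, h11]
    linear_combination h4 + (u - u ^ 3) * h2
  rcases mul_eq_zero.1 this with h | h
  · exact sub_eq_zero.1 h
  · exact absurd h (mul_ne_zero hu.1 (sub_ne_zero.2 hu.2))

/-- The standing data: the twist by squaring on a field of four elements. -/
structure IsStd (Φ : FieldTwist setupE6 K) (ω : K) : Prop where
  omega : IsOmega ω
  f_eq : ∀ x, Φ.f x = x ^ 2
  card : Nat.card K = 2 ^ 2
  fixed : Nat.card {x : K // Φ.f x = x} = 2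

variable {Φ : FieldTwist setupE6 K} (h : IsStd Φ ω)
include h

theorem IsStd.f_cV {t : ℕ} (ht : t < 4) : Φ.f (cV ω t) = cV ω (sqF t) := by
  have e := h.omega.sq
  rw [h.f_eq]
  interval_cases t <;> simp [cV, sqF, pow_two, e]
  have h2 : (2 : K) = 0 := by rw [← one_add_one_eq_two, h.omega.two]
  linear_combination e + (ω + 1) * h2

theorem IsStd.finite : Finite K := Nat.finite_of_card_ne_zero (by rw [h.card]; norm_num)

omit h

theorem goodE6 : setupE6.good.good = goodC.good := rfl

theorem oX_one {r : Root chevE6} (ho : setupE6.osize r = 1) (x : K) :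
    Φ.oX r x = X goodC.good r x := by
  simp [FieldTwist.oX, ho, List.range_succ]

theorem oX_two (hω : IsOmega ω) {r : Root chevE6} (ho : setupE6.osize r = 2) (x : K) :
    Φ.oX r x = X goodC.good r x * X goodC.good (setupE6.σR r) (Φ.f x) := by
  have hs : (setupE6.cfg.S.sgn (r : ℕ) : K) = 1 := by
    rcases sgn_unit r with e | e <;> rw [e] <;> simp [hω.neg_eq]
  simp [FieldTwist.oX, ho, List.range_succ, Φ.Ψ_X, hs]

/-- The element of an orbit is given by its word. -/
theorem IsStd.oX_eq (h : IsStd Φ ω) (j : Fin setupE6.norb) {t : ℕ} (ht : t < 4)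
    (h1 : setupE6.osize (setupE6.rep j) = 1 → t = 1) :
    Φ.oX (setupE6.rep j) (cV ω t) = xw ω (orbW j t) := by
  rcases osize_le j with ho | ho
  · rw [oX_one ho, orbW, if_pos ho, h1 ho]
    simp [xw, xp]
  · rw [oX_two h.omega ho, orbW, if_neg (by omega), h.f_cV ht]
    simp [xw, xp]

theorem adm_cases (j : Fin setupE6.norb) (ho : setupE6.osize (setupE6.rep j) = 1) {x : K}
    (hx : Φ.Adm (setupE6.rep j) x) : Φ.f x = x := by
  refine hx ?_
  rw [setupE6.osize_eq] at ho
  by_contra hne
  rw [if_neg hne] at ho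
  exact absurd ho (show setupE6.cfg.k ≠ 1 by decide +kernel)

theorem adm_two (j : Fin setupE6.norb) (ho : setupE6.osize (setupE6.rep j) = 2) (x : K) :
    Φ.Adm (setupE6.rep j) x := fun e => by
  rw [setupE6.osize_eq, if_pos e] at ho
  omega

include h

theorem IsStd.genW_mem (i : ℕ) : xw ω (genW i) ∈ Φ.U1 := by
  haveI := h.finite
  by_cases hi : i < 36
  · obtain ⟨j, t, e⟩ := gen_orbW ⟨i, hi⟩
    replace e : genW i = orbW j t := e
    rw [e]
    rcases osize_le j with ho | ho
    · have e1 : orbW j t = orbW j 1 := by rw [orbW, orbW, if_pos ho, if_pos ho]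
      rw [e1, ← h.oX_eq j (by norm_num) fun _ => rfl]
      refine ⟨Φ.oX_mem_pos (setupE6.rep_pos j) _, Φ.oX_mem_fix ?_⟩
      exact Φ.adm_one _
    · rw [← h.oX_eq j t.2 fun e' => absurd e' (by omega)]
      exact ⟨Φ.oX_mem_pos (setupE6.rep_pos j) _, Φ.oX_mem_fix (adm_two j ho _)⟩
  · rw [genW, List.getD_eq_default _ _ (by rw [genRows_len]; omega)]
    exact one_mem _

/-- The generators. -/
def IsStd.uGen (i : ℕ) : ↥Φ.tG :=
  ⟨xw ω (genW i), haveI := h.finite; Φ.U1_le_tG (h.genW_mem i)⟩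

theorem IsStd.coe_ev (w : List ℕ) :
    ((Pc.ev h.uGen w : ↥Φ.tG) : GL chevE6.Idx K) = xw ω (gw w) := by
  induction w with
  | nil => rfl
  | cons a w ih =>
    rw [Pc.ev_cons, Subgroup.coe_mul, ih]
    show xw ω (genW a) * xw ω (gw w) = xw ω (genW a ++ gw w)
    rw [xw_append]

theorem IsStd.uGen_rules {b a : ℕ} (hab : a ≤ b) (hb : b < 36) :
    h.uGen b * h.uGen a = Pc.ev h.uGen (rule b a) := by
  have e := ruleChk_true
  simp only [ruleChk, List.all_eq_true, List.mem_range] at e
  refine Subtype.ext ?_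
  rw [h.coe_ev, ← xw_eq h.omega (e b hb a (by omega)), ← h.coe_ev]
  simp [Pc.ev_cons]

/-- The unipotent subgroup. -/
def IsStd.usub : Subgroup ↥Φ.tG := Pc.tailSubgroup h.uGen 36 0

theorem IsStd.usub_eq : h.usub = Φ.U1.subgroupOf Φ.tG := by
  haveI := h.finite
  refine le_antisymm ((Subgroup.closure_le _).2 ?_) ?_
  · rintro _ ⟨i, -, rfl⟩
    exact h.genW_mem i
  intro g hg
  have hg' : (g : GL chevE6.Idx K) ∈ h.usub.map Φ.tG.subtype := by
    refine Φ.u1_induction (L := h.usub.map Φ.tG.subtype) (fun j x hx => ?_) hg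
    letI := Fintype.ofFinite K
    have hK : Fintype.card K = 4 := by rw [← Nat.card_eq_fintype_card, h.card]; norm_num
    obtain ⟨t, ht, rfl⟩ := h.omega.cV_surjective hK x
    have hgen : ∀ t, t = 2 ∨ t = 3 → Φ.oX (setupE6.rep j) (cV ω t) ∈
        h.usub.map Φ.tG.subtype ∨ setupE6.osize (setupE6.rep j) = 1 := by
      intro t ht'
      rcases osize_le j with ho | ho
      · exact Or.inr ho
      · obtain ⟨i, hi⟩ := orbW_gen j ⟨t, by omega⟩ ht'
        refine Or.inl ⟨h.uGen i, Pc.gen_mem_tailSubgroup _ (Nat.zero_le _) i.2, ?_⟩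
        rw [h.oX_eq j (by omega) fun e => absurd e (by omega), ← hi]
        rfl
    by_cases h0 : t = 0
    · rw [h0, show cV ω 0 = (0 : K) from rfl, Φ.oX_zero]; exact one_mem _
    rcases osize_le j with ho | ho
    · have hfx := adm_cases j ho hx
      rw [h.f_cV ht] at hfx
      have ht1 : t = 1 := by
        have hne := h.omega.ne_zero
        interval_cases t
        · exact absurd rfl h0
        · rfl
        · simp [cV, sqF] at hfx
        · simp [cV, sqF] at hfx
      obtain ⟨i, hi⟩ := orbW_gen j 2 (Or.inl rfl)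
      refine ⟨h.uGen i, Pc.gen_mem_tailSubgroup _ (Nat.zero_le _) i.2, ?_⟩
      rw [h.oX_eq j ht fun _ => ht1]
      show xw ω (genW i) = _
      rw [hi, orbW, orbW, if_pos ho, if_pos ho]
    · rcases (show t = 1 ∨ t = 2 ∨ t = 3 by omega) with rfl | rfl | rfl
      · rw [show cV ω 1 = cV ω (addF 2 3) from rfl, h.omega.cV_xor (by norm_num) (by norm_num),
          ← Φ.oX_mul]
        exact mul_mem ((hgen 2 (Or.inl rfl)).resolve_right (by omega))
          ((hgen 3 (Or.inr rfl)).resolve_right (by omega))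
      · exact (hgen 2 (Or.inl rfl)).resolve_right (by omega)
      · exact (hgen 3 (Or.inr rfl)).resolve_right (by omega)
  obtain ⟨g', hg1, hg2⟩ := hg'
  rwa [← show g' = g from Subtype.ext hg2]

theorem IsStd.card_usub : Nat.card h.usub = 2 ^ 36 := by
  haveI := h.finite
  rw [h.usub_eq, Nat.card_congr (Subgroup.subgroupOfEquivOfLe Φ.U1_le_tG).toEquiv,
    show (36 : ℕ) = half chevE6 by decide +kernel]
  exact Φ.natCard_u1 h.fixed h.card

theorem IsStd.conj_xw {g : GL chevE6.Idx K} {π e : ℕ → ℕ} (he : ∀ r, e r < 3)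
    (hg : ∀ (r : Root chevE6) (x : K), ∃ h' : π r < chevE6.nroots,
      g * X goodC.good r x * g⁻¹ = X goodC.good ⟨π r, h'⟩ (ω ^ e r * x))
    (w : List (ℕ × ℕ)) (hw : ∀ p ∈ w, p.1 < 72 ∧ p.2 < 4) :
    g * xw ω w * g⁻¹ = xw ω (actW π e w) := by
  have hn : chevE6.nroots = 72 := by decide +kernel
  induction w with
  | nil => simp [xw, actW]
  | cons p w ih =>
    obtain ⟨hp, ht⟩ := hw p List.mem_cons_self
    have hs : cV ω (scal (e p.1) p.2) = ω ^ e p.1 * cV ω p.2 := by
      have h3 := he p.1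
      have hm : (([1, 2, 3] : List ℕ).getD (e p.1) 0) < 4 ∧
          cV ω (([1, 2, 3] : List ℕ).getD (e p.1) 0) = ω ^ e p.1 := by
        generalize e p.1 = k at h3
        interval_cases k <;> simp [cV, pow_two, h.omega.sq]
      rw [scal, h.omega.cV_mul hm.1 ht, hm.2]
    rw [actW, List.map_cons, xw_cons, xw_cons, ← actW.eq_1 π e w, ← ih fun q hq => hw q (List.mem_cons_of_mem _ hq)]
    have e1 : xp ω p = X goodC.good ⟨p.1, hn ▸ hp⟩ (cV ω p.2) := dif_pos (hn ▸ hp)
    obtain ⟨h', e2⟩ := hg ⟨p.1, hn ▸ hp⟩ (cV ω p.2)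
    have e3 : xp ω (π p.1, scal (e p.1) p.2) = X goodC.good ⟨π p.1, h'⟩ (ω ^ e p.1 * cV ω p.2) := by
      rw [← hs]; exact dif_pos h'
    rw [e3, ← e2, e1]
    group

end CfsgLib.TwistE6Mult
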