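import Cfsg.Agent.TwistE6Mult.Group

/-!
# The reflections and the torus act on the generators of `²E₆(2)` as tabled
-/

set_option autoImplicit false
set_option maxRecDepth 20000
set_option linter.style.haveILetI false

namespace CfsgLib.TwistE6Mult

open Cfsg.Lie CfsgLib.Chevalley CfsgLib.GraphTwist CfsgLib.Schur
open scoped MatrixGroups

universe u

variable {K : Type u} [Field K] {ω : K} {Φ : FieldTwist setupE6 K}

theorem eta_cast (hω : IsOmega ω) (i : Fin chevE6.rank) (r : Root chevE6) :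
    (eta chevE6 i r : K) = 1 := by
  have h : eta chevE6 i r = 1 ∨ eta chevE6 i r = -1 :=
    Int.isUnit_iff.1 (isUnit_iff_exists_inv.2 ⟨_, setupE6.good.eta_sq i r⟩)
  rcases h with e | e <;> rw [e] <;> simp [hω.neg_eq]

theorem nO_conj_X (hω : IsOmega ω) (o : Fin setupE6.cfg.m) (r : Root chevE6) (x : K) :
    Φ.nO o * X goodC.good r x * (Φ.nO o)⁻¹ = X goodC.good (setupE6.wR o r) x := by
  rw [FieldTwist.nO_eq, Setup.wR]
  induction setupE6.nlist o generalizing r with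
  | nil => simp
  | cons i L ih =>
    rw [List.map_cons, List.prod_cons, List.map_cons, List.prod_cons, Equiv.Perm.mul_apply,
      show ∀ a b c : GL chevE6.Idx K, a * b * c * (a * b)⁻¹ = a * (b * c * b⁻¹) * a⁻¹ from
        fun a b c => by group, ih,
      show X goodC.good = X setupE6.good.good from rfl, nR_conj, eta_cast hω, one_mul]

theorem torExp_spec : ∀ r : Root chevE6, torExp r < 3 ∧
    (3 : ℤ) ∣ chevE6.cartan 0 r + 2 * chevE6.cartan 5 r - torExp r := by
  decide +kernel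

theorem torExp_lt (r : ℕ) : torExp r < 3 := by
  unfold torExp
  have := Int.emod_lt_of_pos (chevE6.cartan 0 r + 2 * chevE6.cartan 5 r) (by norm_num : (0 : ℤ) < 3)
  omega

theorem node_vals : ∀ k : Fin 6, (nodeE6 k : ℕ) = k := fun _ => rfl

variable (h : IsStd Φ ω)
include h

theorem IsStd.actW_refl (o : Fin setupE6.cfg.m) (w : List (ℕ × ℕ))
    (hw : ∀ p ∈ w, p.1 < 72 ∧ p.2 < 4) :
    Φ.nO o * xw ω w * (Φ.nO o)⁻¹ = xw ω (actW (reflP o) (fun _ => 0) w) := by
  refine h.conj_xw (fun _ => by norm_num) (fun r x => ?_) w hw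
  have e : (setupE6.wR o r : ℕ) = reflP o r := setupE6.wR_val o r
  refine ⟨e ▸ (setupE6.wR o r).2, ?_⟩
  rw [nO_conj_X h.omega, pow_zero, one_mul]
  congr 1
  exact Fin.ext e

theorem genW_bound (i : ℕ) : ∀ p ∈ genW i, p.1 < 72 ∧ p.2 < 4 := by
  intro p hp
  by_cases hi : i < 36
  · have e := genW_lt ⟨i, hi⟩
    simp only [List.all_eq_true, Bool.and_eq_true] at e
    exact ⟨Nat.le_of_ble_eq_true (e p hp).1, Nat.le_of_ble_eq_true (e p hp).2⟩
  · rw [genW, List.getD_eq_default _ _ (by rw [genRows_len]; omega)] at hp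
    simp at hp

/-- The reflections move the generators as tabled. -/
theorem IsStd.nG1_conj (o : Fin setupE6.cfg.m) {s : ℕ} (hs : s < 36) (hi : img o s < 36) :
    Φ.nG1 o * h.uGen s * (Φ.nG1 o)⁻¹ = h.uGen (img o s) := by
  have e := reflChk_true
  simp only [reflChk, List.all_eq_true, List.mem_range, Bool.or_eq_true] at e
  have e2 := (e o (show (o : ℕ) < 4 from o.2) s hs).resolve_left fun hle => by
    have := Nat.le_of_ble_eq_true hle; omega
  refine Subtype.ext ?_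
  show Φ.nO o * xw ω (genW s) * (Φ.nO o)⁻¹ = xw ω (genW (img o s))
  rw [h.actW_refl o _ (genW_bound h s), xw_eq h.omega e2]

/-- The unit `ω`. -/
def IsStd.wU : Kˣ := Units.mk0 ω h.omega.ne_zero

/-- The parameters of the torus element. -/
def IsStd.torVec : Fin chevE6.rank → Kˣ := (![h.wU, 1, 1, 1, 1, h.wU ^ 2] : Fin 6 → Kˣ)

theorem IsStd.torVec_fix : h.torVec ∈ Φ.fixC := by
  obtain ⟨-, p0, p1, p2, p3, p4, p5⟩ := cartanE6_eq
  have hfU : ∀ b : Kˣ, Φ.fU b = b ^ 2 := fun b =>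
    Units.ext (by rw [Φ.coe_fU, h.f_eq, Units.val_pow_eq_pow_val])
  have h4 : (h.wU ^ 2) ^ 2 = h.wU := Units.ext (by
    simp only [Units.val_pow_eq_pow_val, IsStd.wU, Units.val_mk0]
    rw [← pow_mul, show 2 * 2 = 3 + 1 from rfl, pow_succ, h.omega.cube, one_mul])
  refine Φ.mem_fixC.2 fun i => ?_
  obtain ⟨i, rfl⟩ : ∃ j, nodeE6 j = i := ⟨i, rfl⟩
  rw [hfU]
  fin_cases i
  · exact congrArg h.torVec p0
  · exact (congrArg h.torVec p1).trans (one_pow 2).symm
  · exact (congrArg h.torVec p2).trans (one_pow 2).symm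
  · exact (congrArg h.torVec p3).trans (one_pow 2).symm
  · exact (congrArg h.torVec p4).trans (one_pow 2).symm
  · exact (congrArg h.torVec p5).trans h4.symm

/-- The torus element. -/
def IsStd.tor : ↥Φ.tG := ⟨torC chevE6 h.torVec, Φ.H₀_le_tG ⟨_, h.torVec_fix, rfl⟩⟩

theorem IsStd.chi_torVec (r : Root chevE6) :
    ((ChevSimple.chi h.torVec r : Kˣ) : K) = ω ^ torExp r := by
  obtain ⟨-, m, hm⟩ := torExp_spec r
  have hw3 : h.wU ^ (3 : ℤ) = 1 := Units.ext (by
    simp [IsStd.wU, zpow_ofNat, h.omega.cube])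
  have e : ChevSimple.chi h.torVec r = h.wU ^ (torExp r : ℤ) := by
    rw [ChevSimple.chi]
    refine (Fin.prod_univ_six (fun k : Fin 6 =>
      h.torVec (nodeE6 k) ^ chevE6.cartan (nodeE6 k) r)).trans ?_
    show h.wU ^ chevE6.cartan 0 r * (1 : Kˣ) ^ chevE6.cartan 1 r * (1 : Kˣ) ^ chevE6.cartan 2 r *
      (1 : Kˣ) ^ chevE6.cartan 3 r * (1 : Kˣ) ^ chevE6.cartan 4 r *
        (h.wU ^ 2) ^ chevE6.cartan 5 r = _
    simp only [one_zpow, mul_one]
    rw [← zpow_natCast h.wU 2, ← zpow_mul, ← zpow_add,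
      show chevE6.cartan 0 r + (2 : ℕ) * chevE6.cartan 5 r = (torExp r : ℤ) + 3 * m by
        push_cast; omega,
      zpow_add, zpow_mul, hw3, one_zpow, mul_one]
  rw [e, zpow_natCast, Units.val_pow_eq_pow_val]
  rfl

theorem IsStd.actW_tor (w : List (ℕ × ℕ)) (hw : ∀ p ∈ w, p.1 < 72 ∧ p.2 < 4) :
    (h.tor : GL chevE6.Idx K) * xw ω w * (h.tor : GL chevE6.Idx K)⁻¹ =
      xw ω (actW id torExp w) := by
  refine h.conj_xw torExp_lt (fun r x => ⟨r.2, ?_⟩) w hw
  show torC chevE6 h.torVec * X goodC.good r x * (torC chevE6 h.torVec)⁻¹ = _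
  rw [ChevSimple.torC_conj_X, h.chi_torVec]
  rfl

/-- The torus element maps a generator to a word. -/
theorem IsStd.tor_conj {s : ℕ} (hs : s < 36) :
    h.tor * h.uGen s * h.tor⁻¹ = Pc.ev h.uGen (torRows.getD s []) := by
  have e := torChk_true
  simp only [torChk, List.all_eq_true, List.mem_range, Bool.and_eq_true] at e
  refine Subtype.ext ?_
  rw [h.coe_ev]
  show (h.tor : GL chevE6.Idx K) * xw ω (genW s) * (h.tor : GL chevE6.Idx K)⁻¹ = _
  rw [h.actW_tor _ (genW_bound h s), xw_eq h.omega (e.1 s hs).2]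

omit h in
theorem actW_bound {w : List (ℕ × ℕ)} (hw : ∀ p ∈ w, p.1 < 72 ∧ p.2 < 4) :
    ∀ p ∈ actW id torExp w, p.1 < 72 ∧ p.2 < 4 := by
  intro p hp
  obtain ⟨q, hq, rfl⟩ := List.mem_map.1 hp
  refine ⟨(hw q hq).1, ?_⟩
  have h2 := (hw q hq).2
  have h3 := torExp_lt q.1
  show scal (torExp q.1) q.2 < 4
  revert h2 h3
  generalize q.2 = t
  generalize torExp q.1 = k
  intro h2 h3
  interval_cases t <;> interval_cases k <;> decide

/-- The fusions. -/
theorem IsStd.exists_fus (f : ℕ) (hf : f < 6) :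
    ∃ g : ↥Φ.tG, ∀ s, s < 36 → img f s < 36 → g * h.uGen s * g⁻¹ = h.uGen (img f s) := by
  by_cases h4 : f < 4
  · exact ⟨Φ.nG1 ⟨f, h4⟩, fun s hs hi => h.nG1_conj ⟨f, h4⟩ hs hi⟩
  have e := torChk_true
  simp only [torChk, List.all_eq_true, List.mem_range, Bool.and_eq_true, Bool.or_eq_true] at e
  have hno : ∀ s, img f s < 36 → ¬ Nat.ble 36 (img f s) = true := fun s hi hle => by
    have := Nat.le_of_ble_eq_true hle; omega
  obtain rfl | rfl : f = 4 ∨ f = 5 := by omega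
  · refine ⟨h.tor, fun s hs hi => Subtype.ext ?_⟩
    show (h.tor : GL chevE6.Idx K) * xw ω (genW s) * (h.tor : GL chevE6.Idx K)⁻¹ = _
    rw [h.actW_tor _ (genW_bound h s), xw_eq h.omega ((e.2 s hs).1.resolve_left (hno s hi))]
    rfl
  · refine ⟨h.tor * h.tor, fun s hs hi => Subtype.ext ?_⟩
    show (h.tor : GL chevE6.Idx K) * h.tor * xw ω (genW s) *
      ((h.tor : GL chevE6.Idx K) * h.tor)⁻¹ = _
    rw [show ∀ a b : GL chevE6.Idx K, a * a * b * (a * a)⁻¹ = a * (a * b * a⁻¹) * a⁻¹ from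
        fun a b => by group, h.actW_tor _ (genW_bound h s),
      h.actW_tor _ (actW_bound (genW_bound h s)),
      xw_eq h.omega ((e.2 s hs).2.resolve_left (hno s hi))]
    rfl

theorem IsStd.index_usub : ¬ 2 ∣ h.usub.index := by
  haveI := h.finite
  letI := Fintype.ofFinite K
  have hK : Fintype.card K = 2 ^ 2 := by rw [← Nat.card_eq_fintype_card]; exact h.card
  haveI : Fact (Nat.Prime 2) := ⟨Nat.prime_two⟩
  haveI : CharP K 2 := charP_of_card_eq_prime_pow (p := 2) (f := 2) (by simpa using hK)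
  obtain ⟨Φ', e, hf', hfix', -, -⟩ := twistedE6_eq_tG (K := K) Nat.prime_two.isPrimePow hK
  have hΦ : Φ' = Φ := by
    obtain ⟨f, hp⟩ := Φ
    obtain ⟨f', hp'⟩ := Φ'
    obtain rfl : f' = f := RingEquiv.ext fun x => (hf' x).trans (h.f_eq x).symm
    rfl
  subst hΦ
  have hc := natCard_twistedE6 (K := K) Nat.prime_two.isPrimePow hK
  rw [e] at hc
  have := coprime_index_U1_E6 (p := 2) Φ' h.fixed hK le_rfl hc
  rw [h.usub_eq]
  exact (Nat.prime_two.coprime_iff_not_dvd).1 this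

end CfsgLib.TwistE6Mult
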